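import Mathlib

/-!
An elementary substitute for the free-module argument: if an abelian group `Y` carries a
fixed-point-free endomorphism `u` of order `n` normalised by an abelian group with `m` distinct
exponents fixing `W` pointwise, then `|W| ^ m ≤ |Y|`.
-/

set_option autoImplicit false

namespace Cfsg.Agent.Lib.CNTheorem

open Polynomial

/-- Vandermonde bound for fixed points. -/
theorem card_pow_le_of_vandermonde {Y : Type*} [AddCommGroup Y] [Finite Y] {m : ℕ}
    (u : AddMonoid.End Y) {n : ℕ} (hn : 0 < n) (hu : u ^ n = 1)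
    (hfpf : ∀ t : ℕ, ¬ n ∣ t → ∀ y : Y, (u ^ t) y = y → y = 0)
    (r : Fin m → ℕ) (hr : ∀ a b, r a % n = r b % n → a = b) (W : AddSubgroup Y)
    (hW : ∀ w : Fin m → W, (∑ i : Fin m, (u ^ (i : ℕ)) (w i : Y)) = 0 →
      ∀ b, (∑ i : Fin m, (u ^ (r b * (i : ℕ))) (w i : Y)) = 0) :
    Nat.card W ^ m ≤ Nat.card Y := by
  classical
  let φ : ℤ[X] →ₐ[ℤ] AddMonoid.End Y := aeval u
  let v : Fin m → ℤ[X] := fun b => X ^ (r b)
  let V : Matrix (Fin m) (Fin m) ℤ[X] := Matrix.vandermonde v
  have hV : ∀ b i, φ (V b i) = u ^ (r b * (i : ℕ)) := fun b i => by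
    simp only [V, v, φ, Matrix.vandermonde_apply, ← pow_mul, map_pow, aeval_X]
  have hzero : ∀ (w : Fin m → Y), (∀ b, (∑ i, φ (V b i) (w i)) = 0) →
      ∀ j, φ V.det (w j) = 0 := by
    intro w hw j
    have hmul : ∀ i, (∑ b, V.adjugate j b * V b i) = if j = i then V.det else 0 := by
      intro i
      have h0 := congrFun (congrFun (Matrix.adjugate_mul V) j) i
      rw [Matrix.mul_apply, Matrix.smul_apply, Matrix.one_apply] at h0
      rw [h0]
      split <;> simp
    calc φ V.det (w j) = ∑ i, φ (if j = i then V.det else 0) (w i) := by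
          rw [Finset.sum_eq_single j]
          · rw [if_pos rfl]
          · intro i _ hij
            rw [if_neg (Ne.symm hij), map_zero]
            rfl
          · intro h; exact absurd (Finset.mem_univ _) h
      _ = ∑ i, ∑ b, φ (V.adjugate j b) (φ (V b i) (w i)) := by
          refine Finset.sum_congr rfl fun i _ => ?_
          rw [← hmul i, map_sum]
          refine (map_sum ({ toFun := fun f => f (w i), map_zero' := rfl, map_add' := fun _ _ => rfl } : AddMonoid.End Y →+ Y) _ _).trans ?_
          exact Finset.sum_congr rfl fun b _ => by rw [map_mul]; rfl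
      _ = ∑ b, φ (V.adjugate j b) (∑ i, φ (V b i) (w i)) := by
          rw [Finset.sum_comm]
          exact Finset.sum_congr rfl fun b _ => (map_sum _ _ _).symm
      _ = 0 := Finset.sum_eq_zero fun b _ => by rw [hw b, map_zero]
  -- the determinant acts injectively
  have hdiff : ∀ a b : ℕ, a % n ≠ b % n → ∀ y : Y, φ (X ^ a - X ^ b) y = 0 → y = 0 := by
    intro a b hab y hy
    simp only [φ, map_sub, map_pow, aeval_X] at hy
    have h1 : (u ^ a) y = (u ^ b) y := sub_eq_zero.mp hy
    refine hfpf (a + (n - b % n)) ?_ y ?_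
    · intro hd
      have hbn := Nat.mod_lt b hn
      have h2 := congrArg (· % n) (Nat.div_add_mod b n)
      have hb : n ∣ b + (n - b % n) := ⟨b / n + 1, by rw [mul_add, mul_one]; have := Nat.div_add_mod b n; omega⟩
      exact hab (Nat.ModEq.add_right_cancel' (n - b % n)
        ((Nat.modEq_zero_iff_dvd.mpr hd).trans (Nat.modEq_zero_iff_dvd.mpr hb).symm))
    · have hbn := Nat.mod_lt b hn
      have h3 : (u ^ (b + (n - b % n))) y = y := by
        have he : b + (n - b % n) = n * (b / n + 1) := by
          rw [mul_add, mul_one]; have := Nat.div_add_mod b n; omega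
        rw [he, pow_mul, hu, one_pow]
        rfl
      rw [add_comm a, pow_add]
      rw [add_comm b, pow_add] at h3
      show (u ^ (n - b % n)) ((u ^ a) y) = y
      rw [h1]
      exact h3
  have hdet : ∀ y : Y, φ V.det y = 0 → y = 0 := by
    simp only [V, Matrix.det_vandermonde]
    refine Finset.prod_induction _ (fun P => ∀ y : Y, φ P y = 0 → y = 0) ?_ ?_ ?_
    · intro P Q hP hQ y hy
      rw [map_mul] at hy
      exact hQ y (hP _ hy)
    · intro y hy; rw [map_one] at hy; exact hy
    · intro i _
      refine Finset.prod_induction _ (fun P => ∀ y : Y, φ P y = 0 → y = 0) ?_ ?_ ?_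
      · intro P Q hP hQ y hy
        rw [map_mul] at hy
        exact hQ y (hP _ hy)
      · intro y hy; rw [map_one] at hy; exact hy
      · intro j hj
        exact hdiff _ _ fun e => (Finset.mem_Ioi.mp hj).ne' (hr _ _ e)
  have hinj : Function.Injective
      (fun w : Fin m → W => ∑ i : Fin m, (u ^ (i : ℕ)) (w i : Y)) := by
    intro w w' hww
    have h0 : (∑ i : Fin m, (u ^ (i : ℕ)) ((w - w') i : Y)) = 0 := by
      simp only [Pi.sub_apply, AddSubgroup.coe_sub, map_sub, Finset.sum_sub_distrib]
      exact sub_eq_zero.mpr hww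
    funext j
    refine Subtype.ext (sub_eq_zero.mp ?_)
    refine hdet _ (hzero (fun i => ((w i : Y) - (w' i : Y))) (fun b => ?_) j)
    simp only [hV]
    exact hW (w - w') h0 b
  have := Nat.card_le_card_of_injective _ hinj
  simpa [Nat.card_pi] using this

end Cfsg.Agent.Lib.CNTheorem
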