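import Cfsg.Agent.Lib.CNTheorem.Basic
import Cfsg.Agent.Lib.CNTheorem.FixBound
import Cfsg.Agent.Lib.Frobenius.FPF
import Cfsg.Agent.Lib.PUnique.Basic
import Cfsg.Agent.Lib.PGroup.Thompson

/-!
Solvable CN-groups of odd order with `C(O_p) ≤ O_p` which are not `p`-closed: a Sylow
`p`-subgroup is not contained in the derived subgroup, and its Thompson subgroup is normal.
-/

set_option autoImplicit false
open scoped commutatorElement
set_option linter.style.haveILetI false

namespace Cfsg.Agent.Lib.CNTheorem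

open Subgroup
open Cfsg.Agent.Lib

universe u

variable {X : Type u} [Group X] [Finite X]

open scoped IsMulCommutative in
/-- A nilpotent group of odd order acting fixed-point-freely on a nontrivial abelian group by
conjugation is cyclic. -/
theorem isCyclic_of_nilpotent_fpf (U V : Subgroup X) [IsMulCommutative V] (hV : V ≠ ⊥)
    (hUV : U ≤ normalizer (V : Set X)) (hU : Group.IsNilpotent U) (hodd : Odd (Nat.card U))
    (hfpf : ∀ a ∈ U, a ≠ 1 → V ⊓ centralizer {a} = ⊥) : IsCyclic U := by
  letI := Frobenius.FPF.conjAction U V hUV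
  have hf : Frobenius.FPF.IsFPF U V := Frobenius.FPF.isFPF_conjAction U V hUV hfpf
  haveI : Nontrivial V := (V.nontrivial_iff_ne_bot).mpr hV
  haveI := hU
  haveI : IsZGroup U := by
    refine ⟨fun q hq Q => ?_⟩
    haveI := Fact.mk hq
    rcases eq_or_ne (Q : Subgroup U) ⊥ with hQ | hQ
    · rw [hQ]; infer_instance
    haveI : Nontrivial (Q : Subgroup U) := ((Q : Subgroup U).nontrivial_iff_ne_bot).mpr hQ
    have hq2 : q ≠ 2 := by
      intro e
      obtain ⟨k, hk⟩ := Q.2.exists_card_eq
      have hk0 : k ≠ 0 := fun h0 => hQ (Subgroup.card_eq_one.mp (by rw [hk, h0, pow_zero]))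
      have h2 : 2 ∣ Nat.card U :=
        ((dvd_pow_self 2 hk0).trans (by rw [← e, ← hk])).trans (card_subgroup_dvd_card _)
      rw [Nat.odd_iff] at hodd
      omega
    refine (PUnique.isCyclic_or_quaternion Q.2 ?_).resolve_right fun h => hq2 h.1
    have hdvd : q ∣ Nat.card (Subgroup.center (Q : Subgroup U)) := by
      haveI := Q.2.center_nontrivial
      obtain ⟨n, hn, hn'⟩ :=
        (Q.2.to_subgroup (Subgroup.center _)).nontrivial_iff_card.mp inferInstance
      rw [hn']
      exact dvd_pow_self q hn.ne'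
    obtain ⟨c, hc⟩ := exists_prime_orderOf_dvd_card' q hdvd
    intro H K hH hK
    have key : ∀ L : Subgroup (Q : Subgroup U), Nat.card L = q → L = zpowers (c : (Q : Subgroup U)) := by
      intro L hL
      refine eq_of_le_of_card_ge (fun x hx => ?_)
        (by rw [hL, Nat.card_zpowers, Subgroup.orderOf_coe, hc])
      have hxq : x ^ q = 1 := by
        have := pow_card_eq_one' (x := (⟨x, hx⟩ : L))
        rw [hL] at this
        exact congrArg Subtype.val this
      have h1 := Frobenius.FPF.mem_zpowers_of_commute hf hq (x := (x : U))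
        (y := ((c : (Q : Subgroup U)) : U))
        (by rw [← Subgroup.coe_pow, hxq, Subgroup.coe_one])
        (by rw [← Subgroup.coe_pow, ← Subgroup.coe_pow, orderOf_dvd_iff_pow_eq_one.mp (dvd_of_eq hc)]; rfl)
        (fun e => hq.ne_one (by rw [← hc, orderOf_eq_one_iff]; exact Subtype.ext (Subtype.ext e)))
        ((show Commute x (c : (Q : Subgroup U)) from mem_center_iff.mp c.2 x).map
          (Q : Subgroup U).subtype)
      obtain ⟨i, hi⟩ := h1
      exact ⟨i, Subtype.ext (by simpa using hi)⟩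
    rw [key H hH, key K hK]
  infer_instance

variable {p : ℕ} [Fact p.Prime]

/-- The elements of order dividing `p` of the centre of `R`. -/
def omegaCenter (p : ℕ) (R : Subgroup X) : Subgroup X where
  carrier := {y | y ∈ R ∧ y ∈ centralizer (R : Set X) ∧ y ^ p = 1}
  one_mem' := ⟨one_mem _, one_mem _, one_pow _⟩
  mul_mem' := by
    rintro a b ⟨ha, ha', ha''⟩ ⟨hb, hb', hb''⟩
    refine ⟨mul_mem ha hb, mul_mem ha' hb', ?_⟩
    rw [(show Commute a b from (mem_centralizer_iff.mp ha' b hb).symm).mul_pow, ha'', hb'', one_mul]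
  inv_mem' := by
    rintro a ⟨ha, ha', ha''⟩
    exact ⟨inv_mem ha, inv_mem ha', by rw [inv_pow, ha'', inv_one]⟩

theorem omegaCenter_normal (R : Subgroup X) [hR : R.Normal] : (omegaCenter p R).Normal := by
  refine ⟨fun y hy g => ⟨hR.conj_mem y hy.1 g, ?_, ?_⟩⟩
  · have := centralizer_le_normalizer (R : Set X)
    refine mem_centralizer_iff.mpr fun r hr => ?_
    have h1 : g⁻¹ * r * g ∈ R := by simpa using hR.conj_mem r hr g⁻¹
    calc r * (g * y * g⁻¹) = g * ((g⁻¹ * r * g) * y) * g⁻¹ := by group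
      _ = g * (y * (g⁻¹ * r * g)) * g⁻¹ := by rw [mem_centralizer_iff.mp hy.2.1 _ h1]
      _ = g * y * g⁻¹ * r := by group
  · rw [conj_pow, hy.2.2, mul_one, mul_inv_cancel]

theorem isElementaryAbelian_omegaCenter (R : Subgroup X) :
    Cfsg.IsElementaryAbelian p (omegaCenter p R) :=
  ElemAbelian.of_comm_of_pow (fun _ ha _ hb => mem_centralizer_iff.mp hb.2.1 _ ha.1)
    (fun _ ha => ha.2.2)

theorem omegaCenter_ne_bot {R : Subgroup X} (hR : IsPGroup p R) (hne : R ≠ ⊥) :
    omegaCenter p R ≠ ⊥ := by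
  haveI : Nontrivial R := (R.nontrivial_iff_ne_bot).mpr hne
  haveI := hR.center_nontrivial
  obtain ⟨n, hn, hn'⟩ := (hR.to_subgroup (Subgroup.center R)).nontrivial_iff_card.mp inferInstance
  obtain ⟨c, hc⟩ := exists_prime_orderOf_dvd_card' (G := Subgroup.center R) p
    (hn' ▸ dvd_pow_self p hn.ne')
  intro e
  have h1 : ((c : R) : X) ∈ omegaCenter p R := by
    refine ⟨(c : R).2, mem_centralizer_iff.mpr fun r hr =>
      congrArg Subtype.val (mem_center_iff.mp c.2 ⟨r, hr⟩), ?_⟩
    rw [← Subgroup.coe_pow, ← Subgroup.coe_pow, orderOf_dvd_iff_pow_eq_one.mp (dvd_of_eq hc)]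
    rfl
  rw [e, mem_bot] at h1
  have : c = 1 := Subtype.ext (Subtype.ext h1)
  rw [this, orderOf_one] at hc
  exact (Fact.out : p.Prime).ne_one hc.symm

/-- Conjugation on a normal subgroup, seen in the endomorphism ring. -/
noncomputable def conjRho (Y : Subgroup X) [Y.Normal] : X →* AddMonoid.End (Additive Y) where
  toFun g := MonoidHom.toAdditive (MulAut.conjNormal g : MulAut Y).toMonoidHom
  map_one' := by
    refine AddMonoidHom.ext fun y => ?_
    show Additive.ofMul ((MulAut.conjNormal (1 : X) : MulAut Y) y.toMul) = y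
    rw [map_one]; rfl
  map_mul' g h := by
    refine AddMonoidHom.ext fun y => ?_
    show Additive.ofMul ((MulAut.conjNormal (g * h) : MulAut Y) y.toMul) =
      Additive.ofMul (MulAut.conjNormal g (MulAut.conjNormal h y.toMul))
    rw [map_mul]; rfl

theorem conjRho_apply (Y : Subgroup X) [Y.Normal] (g : X) (y : Y) :
    (((conjRho Y g (Additive.ofMul y)).toMul : Y) : X) = g * y * g⁻¹ :=
  MulAut.conjNormal_apply g y

theorem conjRho_eq_self_iff (Y : Subgroup X) [Y.Normal] (g : X) (y : Additive Y) :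
    conjRho Y g y = y ↔ Commute g ((y.toMul : Y) : X) := by
  obtain ⟨z, rfl⟩ : ∃ z : Y, Additive.ofMul z = y := ⟨y.toMul, rfl⟩
  constructor
  · intro h
    have := conjRho_apply Y g z
    rw [h] at this
    exact (mul_inv_eq_iff_eq_mul.mp this.symm)
  · intro h
    refine Additive.toMul.injective (Subtype.ext ?_)
    rw [conjRho_apply]
    exact mul_inv_eq_iff_eq_mul.mpr h

/-- Elementary abelian subgroups of largest order lie in `R`. -/
theorem maxIn_le (R : Subgroup X) [R.Normal] (hRp : IsPGroup p R) (hRne : R ≠ ⊥)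
    (hodd : Odd (Nat.card X))
    (hfree : ∀ z : X, (orderOf z).Coprime p → ∀ r ∈ R, r ≠ 1 → Commute z r → z = 1)
    (u : X) (hun : (orderOf u).Coprime p) (hordu : orderOf (QuotientGroup.mk' R u) = orderOf u)
    (hFbn : (zpowers (QuotientGroup.mk' R u)).Normal)
    (hCFb : centralizer (zpowers (QuotientGroup.mk' R u) : Set (X ⧸ R)) ≤
      zpowers (QuotientGroup.mk' R u))
    {S : Subgroup X} (hRS : R ≤ S)
    (hpF : ∀ x : X, x ∈ S → QuotientGroup.mk' R x ∈ zpowers (QuotientGroup.mk' R u) → x ∈ R)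
    {B : Subgroup X} (hB : B ∈ Thompson.maxIn p S) : B ≤ R := by
  classical
  have hp : p.Prime := Fact.out
  set q := QuotientGroup.mk' R with hq
  set n := orderOf u with hn
  set Y := omegaCenter p R with hYdef
  haveI hYn : Y.Normal := omegaCenter_normal R
  have hY : Cfsg.IsElementaryAbelian p Y := isElementaryAbelian_omegaCenter R
  haveI : IsMulCommutative Y := hY.1
  letI : CommGroup Y := { (inferInstance : Group Y) with mul_comm := fun a b => Subtype.ext (ElemAbelian.comm hY a.2 b.2) }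
  have hYne : Y ≠ ⊥ := omegaCenter_ne_bot hRp hRne
  by_contra hBR
  set Bb := B.map q with hBbdef
  set m := Nat.card Bb with hm
  have hm3 : 3 ≤ m := by
    obtain ⟨j, hj⟩ := ((Thompson.isPGroup_of_mem_maxIn hB).map q).exists_card_eq
    have hj0 : j ≠ 0 := by
      intro e
      refine hBR ?_
      rw [e, pow_zero, Subgroup.card_eq_one, Subgroup.map_eq_bot_iff, hq,
        QuotientGroup.ker_mk'] at hj
      exact hj
    have hp3 : 3 ≤ p := by
      have hd : p ∣ Nat.card X :=
        (dvd_pow_self p hj0).trans (hj ▸ (card_subgroup_dvd_card Bb).trans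
          (card_quotient_dvd_card R))
      rcases hp.two_le.lt_or_eq with h | h
      · exact h
      · exfalso
        rw [← h] at hd
        rw [Nat.odd_iff] at hodd
        omega
    calc 3 ≤ p := hp3
      _ = p ^ 1 := (pow_one p).symm
      _ ≤ p ^ j := Nat.pow_le_pow_right hp.pos (Nat.one_le_iff_ne_zero.mpr hj0)
      _ = m := hj.symm
  let e : Fin m ≃ Bb := (Finite.equivFin Bb).symm
  have hbs : ∀ a : Fin m, ∃ b ∈ B, q b = (e a : X ⧸ R) := fun a => (e a).2
  choose bs hbsB hbsq using hbs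
  have hr : ∀ a : Fin m, ∃ r : ℕ, q (bs a * u * (bs a)⁻¹) = q u ^ r := by
    intro a
    have h1 : q (bs a * u * (bs a)⁻¹) ∈ zpowers (q u) := by
      rw [map_mul, map_mul, map_inv]
      exact hFbn.conj_mem _ (mem_zpowers _) _
    obtain ⟨r, hr⟩ := (mem_powers_iff_mem_zpowers).mpr h1
    exact ⟨r, hr.symm⟩
  choose r hr using hr
  have hrinj : ∀ a b, r a % n = r b % n → a = b := by
    intro a b hab
    have h1 : q u ^ r a = q u ^ r b := by
      rw [pow_eq_pow_iff_modEq, hordu]; exact hab
    have h2 : Commute (q ((bs a)⁻¹ * bs b)) (q u) := by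
      have h3 : q (bs a * u * (bs a)⁻¹) = q (bs b * u * (bs b)⁻¹) := by rw [hr a, hr b, h1]
      simp only [map_mul, map_inv] at h3 ⊢
      show (q (bs a))⁻¹ * q (bs b) * q u = q u * ((q (bs a))⁻¹ * q (bs b))
      calc (q (bs a))⁻¹ * q (bs b) * q u
          = (q (bs a))⁻¹ * (q (bs b) * q u * (q (bs b))⁻¹) * q (bs b) := by group
        _ = (q (bs a))⁻¹ * (q (bs a) * q u * (q (bs a))⁻¹) * q (bs b) := by rw [h3]
        _ = _ := by group
    have h4 : q ((bs a)⁻¹ * bs b) ∈ zpowers (q u) := hCFb (mem_centralizer_iff.mpr fun y hy => by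
      obtain ⟨i, rfl⟩ := hy
      exact ((h2.zpow_right i).eq).symm)
    have h5 := hpF _ (hB.2.1 (mul_mem (inv_mem (hbsB a)) (hbsB b))) h4
    have h6 : q (bs a) = q (bs b) := QuotientGroup.eq.mpr h5
    rw [hbsq a, hbsq b] at h6
    exact e.injective (Subtype.ext h6)
  have hmn : m ≤ n := by
    have hn0 : 0 < n := orderOf_pos u
    have := Fintype.card_le_of_injective (fun a => (⟨r a % n, Nat.mod_lt _ hn0⟩ : Fin n))
      (fun a b hab => hrinj a b (congrArg Fin.val hab))
    simpa using this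
  have hnY : n < Nat.card Y := by
    obtain ⟨y, hy, hy1⟩ := (bot_or_exists_ne_one Y).resolve_left hYne
    let f : Option (Fin n) → Y := fun o => o.elim 1 fun t =>
      ⟨u ^ (t : ℕ) * y * (u ^ (t : ℕ))⁻¹, hYn.conj_mem y hy _⟩
    have hf : Function.Injective f := by
      have hne : ∀ t : Fin n, f (some t) ≠ 1 := fun t e =>
        hy1 (conj_eq_one_iff.mp (congrArg Subtype.val e))
      have hlt : ∀ s t : Fin n, (s : ℕ) < t → f (some s) ≠ f (some t) := by
        intro s t hst e
        have e' : u ^ (s : ℕ) * y * (u ^ (s : ℕ))⁻¹ = u ^ (t : ℕ) * y * (u ^ (t : ℕ))⁻¹ :=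
          congrArg Subtype.val e
        have hc : Commute (u ^ ((t : ℕ) - s)) y := by
          have ht : u ^ (t : ℕ) = u ^ (s : ℕ) * u ^ ((t : ℕ) - s) := by
            rw [← pow_add]; congr 1; omega
          rw [ht] at e'
          show u ^ ((t : ℕ) - s) * y = y * u ^ ((t : ℕ) - s)
          calc u ^ ((t : ℕ) - s) * y
              = (u ^ (s : ℕ))⁻¹ * (u ^ (s : ℕ) * u ^ ((t : ℕ) - s) * y *
                  (u ^ (s : ℕ) * u ^ ((t : ℕ) - s))⁻¹) * u ^ (s : ℕ) * u ^ ((t : ℕ) - s) := by
                group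
            _ = (u ^ (s : ℕ))⁻¹ * (u ^ (s : ℕ) * y * (u ^ (s : ℕ))⁻¹) * u ^ (s : ℕ) *
                  u ^ ((t : ℕ) - s) := by rw [e']
            _ = y * u ^ ((t : ℕ) - s) := by group
        have h1 := hfree _ (hun.coprime_dvd_left (orderOf_pow_dvd _)) y hy.1 hy1 hc
        have h2 := Nat.le_of_dvd (by omega) (orderOf_dvd_of_pow_eq_one h1)
        have := t.2
        omega
      rintro (_ | s) (_ | t) h
      · rfl
      · exact absurd h.symm (hne t)
      · exact absurd h (hne s)
      · rcases lt_trichotomy (s : ℕ) t with h' | h' | h'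
        · exact absurd h (hlt s t h')
        · rw [Fin.ext h']
        · exact absurd h.symm (hlt t s h')
    have := Nat.card_le_card_of_injective f hf
    rw [Finite.card_option, Nat.card_fin] at this
    omega
  -- the fixed points of `B` on `Y`
  let W : AddSubgroup (Additive Y) :=
    { carrier := {y | ∀ b ∈ B, conjRho Y b y = y}
      zero_mem' := fun b _ => map_zero _
      add_mem' := fun {x y} hx hy b hb => by rw [map_add, hx b hb, hy b hb]
      neg_mem' := fun {x} hx b hb => by rw [map_neg, hx b hb] }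
  have hB' : Cfsg.IsElementaryAbelian p ((B ⊓ R) ⊔ Y : Subgroup X) :=
    ElemAbelian.sup (ElemAbelian.mono hB.1 inf_le_left) hY fun a ha =>
      mem_centralizer_iff.mpr fun y hy => (mem_centralizer_iff.mp hy.2.1 a ha.2).symm
  have hYW : Nat.card Y ≤ m * Nat.card W := by
    have h1 : Nat.card ((B ⊓ R) ⊔ Y : Subgroup X) ≤ Nat.card B :=
      hB.2.2 _ hB' (sup_le (inf_le_left.trans hB.2.1) fun y hy => hRS hy.1)
    have h2 := PSolvable.card_mul_relIndex (le_sup_right : Y ≤ (B ⊓ R) ⊔ Y)
    rw [relIndex_sup_right] at h2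
    have h3 := PSolvable.card_mul_relIndex (inf_le_right : Y ⊓ (B ⊓ R) ≤ B ⊓ R)
    rw [inf_relIndex_right] at h3
    have h4 : Nat.card Bb * Nat.card (B ⊓ R : Subgroup X) = Nat.card B := by
      have h4' := SZ.card_map_mul_card_inf_ker q B
      rwa [hq, QuotientGroup.ker_mk'] at h4'
    have h5 : Nat.card (Y ⊓ (B ⊓ R) : Subgroup X) ≤ Nat.card W :=
      Nat.card_le_card_of_injective
        (fun y => (⟨Additive.ofMul (⟨(y : X), y.2.1⟩ : Y), fun b hb =>
          (conjRho_eq_self_iff Y b _).mpr (ElemAbelian.comm hB.1 hb y.2.2.1)⟩ : W))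
        (fun a b h => Subtype.ext
          (congrArg (fun w : W => (((w : Additive Y).toMul : Y) : X)) h))
    refine Nat.le_of_mul_le_mul_right ?_ (Nat.card_pos (α := (B ⊓ R : Subgroup X)))
    calc Nat.card Y * Nat.card (B ⊓ R : Subgroup X)
        = Nat.card Y * Y.relIndex (B ⊓ R) * Nat.card (Y ⊓ (B ⊓ R) : Subgroup X) := by
          rw [← h3]; ring
      _ ≤ Nat.card B * Nat.card W := Nat.mul_le_mul (h2.le.trans h1) h5
      _ = m * Nat.card W * Nat.card (B ⊓ R : Subgroup X) := by rw [← h4]; ring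
  have hrho : ∀ a b : X, q a = q b → conjRho Y a = conjRho Y b := by
    intro a b hab
    have h1 : a⁻¹ * b ∈ R := QuotientGroup.eq.mp hab
    have h2 : conjRho Y (a⁻¹ * b) = 1 := by
      refine AddMonoidHom.ext fun y => ?_
      exact (conjRho_eq_self_iff Y _ y).mpr (mem_centralizer_iff.mp (y.toMul).2.2.1 _ h1)
    rw [← mul_one (conjRho Y a), ← h2, ← map_mul, mul_inv_cancel_left]
  have hbound : Nat.card W ^ m ≤ Nat.card (Additive Y) := by
    refine card_pow_le_of_vandermonde (conjRho Y u) (orderOf_pos u)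
      (by rw [← map_pow, pow_orderOf_eq_one, map_one]) ?_ r hrinj W ?_
    · intro t ht y hy
      rw [← map_pow, conjRho_eq_self_iff] at hy
      refine Additive.toMul.injective (Subtype.ext ?_)
      by_contra hy1
      refine ht (orderOf_dvd_of_pow_eq_one ?_)
      exact hfree _ (hun.coprime_dvd_left (orderOf_pow_dvd _)) _ (y.toMul).2.1 hy1 hy
    · intro w hw a
      have h1 := congrArg (conjRho Y (bs a)) hw
      rw [map_sum, map_zero] at h1
      rw [← h1]
      refine Finset.sum_congr rfl fun i _ => ?_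
      have h2 : conjRho Y (u ^ (r a * (i : ℕ))) = conjRho Y (bs a * u ^ (i : ℕ) * (bs a)⁻¹) := by
        refine hrho _ _ ?_
        rw [← conj_pow, map_pow, map_pow, hr a, pow_mul]
      rw [← map_pow, h2, ← map_pow]
      have h3 : conjRho Y (bs a) (w i : Additive Y) = (w i : Additive Y) := (w i).2 _ (hbsB a)
      conv_lhs => rw [← h3]
      show (conjRho Y (bs a * u ^ (i : ℕ) * (bs a)⁻¹) * conjRho Y (bs a)) (w i : Additive Y) =
        (conjRho Y (bs a) * conjRho Y (u ^ (i : ℕ))) (w i : Additive Y)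
      rw [← map_mul, ← map_mul, inv_mul_cancel_right]
  have hYc : Nat.card (Additive Y) = Nat.card Y := rfl
  obtain ⟨i, hi⟩ := (ElemAbelian.isPGroup hY).exists_card_eq
  obtain ⟨j, -, hj⟩ : ∃ j ≤ i, Nat.card W = p ^ j :=
    (Nat.dvd_prime_pow hp).mp (hi ▸ hYc ▸ W.card_addSubgroup_dvd_card)
  rcases Nat.eq_zero_or_pos j with hj0 | hj0
  · rw [hj0, pow_zero] at hj
    rw [hj, mul_one] at hYW
    omega
  · have hp2 := hp.two_le
    have hodd' : p ≠ 2 := by
      intro e2
      have hd : p ∣ Nat.card X :=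
        ((dvd_pow_self p hj0.ne').trans (hj ▸ hYc ▸ W.card_addSubgroup_dvd_card)).trans
          (card_subgroup_dvd_card Y)
      rw [e2] at hd
      rw [Nat.odd_iff] at hodd
      omega
    have hw3 : 3 ≤ Nat.card W := by
      rw [hj]
      calc 3 ≤ p := by omega
        _ ≤ p ^ j := Nat.le_self_pow hj0.ne' p
    obtain ⟨m', hm'⟩ : ∃ m', m = m' + 1 := ⟨m - 1, by omega⟩
    rw [hYc, hm', pow_succ] at hbound
    rw [hm'] at hYW
    have h6 : Nat.card W ^ m' ≤ m' + 1 :=
      Nat.le_of_mul_le_mul_right (hbound.trans hYW) (by omega)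
    have h7 : 3 ^ m' ≤ m' + 1 := (Nat.pow_le_pow_left hw3 m').trans h6
    have h8 : m' + 1 < 3 ^ m' := by
      have : ∀ t, t + 2 < 3 ^ (t + 1) := by
        intro t
        induction t with
        | zero => norm_num
        | succ t ih => rw [pow_succ]; omega
      have h9 := this (m' - 1)
      rw [Nat.sub_add_cancel (by omega : 1 ≤ m')] at h9
      omega
    omega

theorem three_step (hCN : Cfsg.IsCNGroup X) [Group.IsSolvable X] (hodd : Odd (Nat.card X))
    (hC : centralizer (Cfsg.pCore p X : Set X) ≤ Cfsg.pCore p X) (S : Sylow p X)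
    (hS : (S : Subgroup X) ≠ Cfsg.pCore p X) :
    ¬ (S : Subgroup X) ≤ commutator X ∧
      (Cfsg.thompsonSubgroupOf p (S : Subgroup X)).Normal := by
  classical
  have hp : p.Prime := Fact.out
  set R := Cfsg.pCore p X with hRdef
  haveI hRn : R.Normal := by rw [hRdef]; infer_instance
  have hRp : IsPGroup p R := PSolvable.pCore_isPGroup
  have hRS : R ≤ S := PSolvable.pCore_le_sylow S
  have hRne : R ≠ ⊥ := by
    intro e
    refine hS (le_antisymm (fun x _ => ?_) hRS)
    refine hC ?_
    rw [e]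
    exact mem_centralizer_iff.mpr fun y hy => by rw [mem_bot.mp hy, one_mul, mul_one]
  -- `p'`-elements act fixed-point-freely on `R`
  have hfree : ∀ z : X, (orderOf z).Coprime p → ∀ r ∈ R, r ≠ 1 → Commute z r → z = 1 := by
    intro z hz r hr hr1 hzr
    have hzR : z ∈ R := hC (mem_centralizer_iff.mpr fun y hy =>
      (commute_pGroup hCN hRp hz hr hr1 hzr hy).symm)
    have hself := coprime_orderOf_of_mem_pGroup hRp hzR hz
    rwa [Nat.coprime_self, orderOf_eq_one_iff] at hself
  set q := QuotientGroup.mk' R with hq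
  set Fb := Cfsg.fittingSubgroup (X ⧸ R) with hFbdef
  haveI hFbn : Fb.Normal := Fitting.fittingSubgroup_normal
  have hFcop : (Nat.card Fb).Coprime p := by
    rw [Nat.coprime_comm, hp.coprime_iff_not_dvd]
    intro hd
    refine Fitting.not_dvd_relIndex_pCore_fitting (G := X ⧸ R) p ?_
    rw [show Cfsg.pCore p (X ⧸ R) = ⊥ from PSolvable.pCore_quotient_eq_bot, relIndex_bot_left]
    exact hd
  have hpF : ∀ x : X, x ∈ S → q x ∈ Fb → x ∈ R := by
    intro x hx hxF
    have h1 : orderOf (q x) ∣ Nat.card Fb := Subgroup.orderOf_dvd_natCard _ hxF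
    obtain ⟨k, hk⟩ := IsPGroup.iff_orderOf.mp S.2 ⟨x, hx⟩
    rw [Subgroup.orderOf_mk] at hk
    have h2 : orderOf (q x) ∣ p ^ k := hk ▸ orderOf_map_dvd q x
    exact (QuotientGroup.eq_one_iff x).mp
      (orderOf_eq_one_iff.mp (Nat.eq_one_of_dvd_coprimes (hFcop.pow_right k) h1 h2))
  -- a complement `U` of `R` over the Fitting subgroup
  set F := Fb.comap q with hFdef
  haveI : F.Normal := hFbn.comap q
  have hRF : R ≤ F := QuotientGroup.le_comap_mk' R Fb
  obtain ⟨k, hk⟩ := hRp.exists_card_eq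
  have hidx : (R.subgroupOf F).index = Nat.card Fb := by
    have h1 := PSolvable.card_mul_relIndex hRF
    rw [PSolvable.card_comap_mk'] at h1
    exact Nat.eq_of_mul_eq_mul_left Nat.card_pos h1
  obtain ⟨U0, hU0⟩ := Subgroup.exists_right_complement'_of_coprime (N := R.subgroupOf F) (by
    rw [hidx, Nat.card_congr (subgroupOfEquivOfLe hRF).toEquiv, hk]
    exact (hFcop.pow_right k).symm)
  set U := U0.map F.subtype with hUdef
  have hUcard : Nat.card U = Nat.card Fb := by
    rw [hUdef, card_map_of_injective F.subtype_injective, ← hidx, hU0.symm.index_eq_card]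
  have hUcop : ∀ a ∈ U, (orderOf a).Coprime p := fun a ha =>
    hFcop.coprime_dvd_left (hUcard ▸ Subgroup.orderOf_dvd_natCard _ ha)
  have hUR : U ⊓ R = ⊥ := by
    refine eq_bot_iff.mpr fun a ha => mem_bot.mpr ?_
    have hself := coprime_orderOf_of_mem_pGroup hRp ha.2 (hUcop a ha.1)
    rwa [Nat.coprime_self, orderOf_eq_one_iff] at hself
  have hUimg : U.map q = Fb := by
    refine eq_of_le_of_card_ge ?_ (le_of_eq ?_)
    · rintro _ ⟨_, ⟨a, -, rfl⟩, rfl⟩
      exact a.2
    · have h1 := SZ.card_map_mul_card_inf_ker q U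
      rw [hq, QuotientGroup.ker_mk', hUR, card_bot, mul_one] at h1
      rw [hq, h1, hUcard]
  have hUnil : Group.IsNilpotent U := by
    haveI : Group.IsNilpotent Fb := Fitting.isNilpotent_fittingSubgroup
    refine isNilpotent_of_injective ((q.comp U.subtype).codRestrict Fb fun a =>
      hUimg ▸ mem_map_of_mem q a.2) ?_
    intro a b hab
    have h1 : q (a : X) = q (b : X) := congrArg Subtype.val hab
    have h2 : (a : X)⁻¹ * b ∈ U ⊓ R := ⟨U.mul_mem (U.inv_mem a.2) b.2, QuotientGroup.eq.mp h1⟩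
    rw [hUR, mem_bot, inv_mul_eq_one] at h2
    exact Subtype.ext h2
  -- `U` is cyclic
  set Y := omegaCenter p R with hYdef
  haveI hYn : Y.Normal := omegaCenter_normal R
  have hY : Cfsg.IsElementaryAbelian p Y := isElementaryAbelian_omegaCenter R
  haveI : IsMulCommutative Y := hY.1
  have hYne : Y ≠ ⊥ := omegaCenter_ne_bot hRp hRne
  have hfreeY : ∀ z : X, (orderOf z).Coprime p → z ≠ 1 → Y ⊓ centralizer {z} = ⊥ := by
    intro z hz hz1
    refine eq_bot_iff.mpr fun y hy => mem_bot.mpr (by_contra fun hy1 => hz1 ?_)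
    exact hfree z hz y hy.1.1 hy1 (mem_centralizer_iff_commute.mp hy.2).symm
  have hUodd : Odd (Nat.card U) := hodd.of_dvd_nat (card_subgroup_dvd_card U)
  haveI hUcyc : IsCyclic U := isCyclic_of_nilpotent_fpf U Y hYne
    (fun a _ => by rw [Subgroup.normalizer_eq_top]; exact mem_top a) hUnil hUodd
    (fun a ha ha1 => hfreeY a (hUcop a ha) ha1)
  obtain ⟨u₀, hu₀⟩ := IsCyclic.exists_generator (α := U)
  set u : X := (u₀ : X) with hu
  set n := orderOf u with hn
  have hnU : n = Nat.card U := by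
    rw [hn, hu, Subgroup.orderOf_coe]
    exact orderOf_eq_card_of_forall_mem_zpowers hu₀
  have hun : (orderOf u).Coprime p := hUcop u u₀.2
  have hFb : zpowers (q u) = Fb := by
    refine le_antisymm (zpowers_le.mpr (hUimg ▸ mem_map_of_mem q u₀.2)) ?_
    rw [← hUimg]
    rintro _ ⟨a, ha, rfl⟩
    obtain ⟨i, hi⟩ := hu₀ ⟨a, ha⟩
    refine ⟨i, ?_⟩
    show q u ^ i = q a
    rw [← map_zpow, hu, ← Subgroup.coe_zpow]
    exact congrArg (fun w : U => q (w : X)) hi
  have hordu : orderOf (q u) = n := by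
    rw [← Nat.card_zpowers, hFb, hnU, hUcard]
  have hCFb : centralizer (Fb : Set (X ⧸ R)) ≤ Fb := Fitting.centralizer_fittingSubgroup_le
  -- the derived subgroup lies over the Fitting subgroup
  have hcomm : commutator (X ⧸ R) ≤ Fb := by
    refine le_trans ?_ hCFb
    rw [_root_.commutator_def, commutator_le]
    intro a _ b _
    refine mem_centralizer_iff.mpr fun y hy => ?_
    have hFbc : IsCyclic Fb := by
      rw [← hFb]; infer_instance
    have h1 : (MulAut.conjNormal ⁅a, b⁆ : MulAut Fb) = 1 := by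
      refine (IsCyclic.mulAutMulEquiv Fb).injective ?_
      rw [map_one, commutatorElement_def, map_mul, map_mul, map_mul, map_inv, map_inv, map_mul,
        map_mul, map_mul, map_inv, map_inv]
      exact (by rw [mul_comm (IsCyclic.mulAutMulEquiv Fb (MulAut.conjNormal a))
        (IsCyclic.mulAutMulEquiv Fb (MulAut.conjNormal b))]; simp)
    have h2 : ⁅a, b⁆ * y * ⁅a, b⁆⁻¹ = y := by
      have := MulAut.conjNormal_apply ⁅a, b⁆ (⟨y, hy⟩ : Fb)
      rw [h1] at this
      exact this.symm
    exact (mul_inv_eq_iff_eq_mul.mp h2).symm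
  refine ⟨fun hle => hS (le_antisymm (fun x hx => hpF x hx (hcomm ?_)) hRS), ?_⟩
  · have h1 : (commutator X).map q ≤ commutator (X ⧸ R) := by
      rw [_root_.commutator_def, _root_.commutator_def, map_commutator]
      exact commutator_mono le_top le_top
    exact h1 (mem_map_of_mem q (hle hx))
  -- the Thompson subgroup
  have hJ : Cfsg.thompsonSubgroupOf p (S : Subgroup X) ≤ R := by
    rw [Thompson.thompsonSubgroupOf_eq_sSup]
    exact sSup_le fun B hB => maxIn_le R hRp hRne hodd hfree u hun hordu (hFb.symm ▸ hFbn)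
      (by rw [hFb]; exact hCFb) hRS (fun x hx h => hpF x hx (hFb ▸ h)) hB
  rw [← Thompson.thompsonSubgroupOf_eq_of_le hJ hRS]
  refine Subgroup.normalizer_eq_top_iff.mp (eq_top_iff.mpr ?_)
  calc (⊤ : Subgroup X) = normalizer (R : Set X) := (Subgroup.normalizer_eq_top _).symm
    _ ≤ _ := Thompson.normalizer_le p R

end Cfsg.Agent.Lib.CNTheorem
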