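import Cfsg.Agent.Lib.CNTheorem.Main
import Cfsg.Prelude.Def_OddOrder
import Cfsg.Prelude.Def_CaseTheorems

/-!
Consequences of the CN-theorem: no minimal simple group of odd order is CN, and quotients of
CN-groups by solvable normal subgroups are CN.
-/

set_option autoImplicit false
set_option linter.style.haveILetI false

namespace Cfsg.Agent.Lib.CNTheorem

open Subgroup
open Cfsg.Agent.Lib

universe u v

variable {G : Type u} [Group G] [Finite G]

theorem not_isMinSimpleOddOrder (hCN : Cfsg.IsCNGroup G) : ¬ Cfsg.IsMinSimpleOddOrder G := by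
  rintro ⟨hodd, hsimple, hnc, -⟩
  haveI := hsimple
  haveI := isSolvable_of_odd_cn hodd hCN
  exact hnc ⟨⟨fun a b => IsSimpleGroup.comm_iff_isSolvable.mpr inferInstance a b⟩⟩

theorem isCN_quotient_solvable_aux (n : ℕ) : ∀ (G : Type u) [Group G] [Finite G],
    Nat.card G = n → Cfsg.IsCNGroup G → ∀ (H : Subgroup G) [H.Normal], Group.IsSolvable H →
      Cfsg.IsCNGroup (G ⧸ H) := by
  induction n using Nat.strong_induction_on with
  | _ n ih =>
    intro G _ _ hn hCN H _ hH
    rcases eq_or_ne H ⊥ with rfl | hH1
    · exact isCN_of_injective (QuotientGroup.quotientBot (G := G)).toMonoidHom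
        (QuotientGroup.quotientBot (G := G)).injective hCN
    haveI := hH
    haveI : Nontrivial H := (H.nontrivial_iff_ne_bot).mpr hH1
    obtain ⟨p, hp, P, hPn, hPp, hP1⟩ := SZ.exists_normal_pSubgroup H
    haveI := Fact.mk hp
    haveI : (Cfsg.pCore p H).Characteristic := PSolvable.pCore_characteristic
    set R := (Cfsg.pCore p H).map H.subtype with hR
    haveI : R.Normal := ConjAct.normal_of_characteristic_of_normal
    have hRH : R ≤ H := map_subtype_le _
    have hR1 : R ≠ ⊥ := fun e => hP1 (eq_bot_iff.mpr ((PSolvable.le_pCore hPp).trans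
      ((map_eq_bot_iff_of_injective _ H.subtype_injective).mp e).le))
    haveI : (H.map (QuotientGroup.mk' R)).Normal :=
      Subgroup.Normal.map inferInstance _ (QuotientGroup.mk'_surjective R)
    have h1 := ih (Nat.card (G ⧸ R)) (by
        rw [← hn, card_eq_card_quotient_mul_card_subgroup R]
        exact lt_mul_of_one_lt_right Nat.card_pos (R.one_lt_card_iff_ne_bot.mpr hR1))
      (G ⧸ R) rfl (isCN_quotient hCN R (PSolvable.pCore_isPGroup.map _))
      (H.map (QuotientGroup.mk' R))
      (Group.isSolvable_of_surjective ((QuotientGroup.mk' R).subgroupMap_surjective H))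
    let e := (QuotientGroup.quotientQuotientEquivQuotient R H hRH).symm
    exact isCN_of_injective e.toMonoidHom e.injective h1

/-- A quotient of a CN-group by a solvable normal subgroup is CN. -/
theorem isCN_quotient_solvable (hCN : Cfsg.IsCNGroup G) (H : Subgroup G) [H.Normal]
    (hH : Group.IsSolvable H) : Cfsg.IsCNGroup (G ⧸ H) :=
  isCN_quotient_solvable_aux _ G rfl hCN H hH

end Cfsg.Agent.Lib.CNTheorem
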