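import Cfsg.Agent.Lib.CNTheorem.Exceptional

/-!
The counting argument: a group of odd order is not covered by a family of self-centralising
nilpotent TI blocks each properly contained in its normaliser.
-/

set_option autoImplicit false
set_option linter.style.haveILetI false

namespace Cfsg.Agent.Lib.CNTheorem

open Subgroup
open Cfsg.Agent.Lib
open scoped ComplexConjugate commutatorElement

universe u

variable {G : Type u} [Group G] [Fintype G] {ι : Type} [Fintype ι] (H : ι → Subgroup G)

/-- A class function summed over the nonidentity elements. -/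
theorem sum_erase_one_eq [DecidableEq G] (hB : ∀ i, IsCNBlock (H i))
    (hcover : ∀ y : G, y ≠ 1 → ∃ (i : ι) (g : G), g * y * g⁻¹ ∈ H i)
    (hsep : ∀ (i j : ι) (x g : G), x ∈ H i → x ≠ 1 → g * x * g⁻¹ ∈ H j → i = j)
    (F : G → ℝ) (hF : ∀ g x, F (g * x * g⁻¹) = F x) :
    ∑ y ∈ Finset.univ.erase (1 : G), F y = (Nat.card G : ℝ) *
      ∑ i, ((Nat.card (normalizer (H i : Set G)) : ℝ))⁻¹ * ∑ x ∈ punctured (H i), F x := by
  classical
  have hone : ∀ y : G, y ≠ 1 → ∑ i, ((Nat.card (normalizer (H i : Set G)) : ℝ))⁻¹ *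
      (∑ g : G, if g⁻¹ * y * g ∈ punctured (H i) then (1 : ℝ) else 0) = 1 := by
    intro y hy
    obtain ⟨i, g₀, hg₀⟩ := hcover y hy
    have hy0 : g₀ * y * g₀⁻¹ ≠ 1 := fun e => hy (conj_eq_one_iff.mp e)
    rw [Finset.sum_eq_single i]
    · rw [Finset.sum_boole, inv_mul_eq_one₀ (Nat.cast_ne_zero.mpr Nat.card_pos.ne'), Nat.cast_inj,
        ← Fintype.card_subtype, ← Nat.card_eq_fintype_card]
      refine Nat.card_congr ?_
      exact
        { toFun := fun m => ⟨g₀⁻¹ * m, by
            rw [mem_punctured]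
            have h1 : (g₀⁻¹ * (m : G))⁻¹ * y * (g₀⁻¹ * m) = (m : G)⁻¹ * (g₀ * y * g₀⁻¹) * m := by
              group
            rw [h1]
            refine ⟨?_, fun e => hy0 ?_⟩
            · have := (mem_normalizer_iff.mp (inv_mem m.2) _).mp hg₀
              rwa [inv_inv] at this
            · have h2 := congrArg (fun t => (m : G) * t * (m : G)⁻¹) e
              simpa [mul_assoc] using h2⟩
          invFun := fun g => ⟨g₀ * g, by
            obtain ⟨h1, -⟩ := mem_punctured (H i) |>.mp g.2
            have h2 : (g₀ * (g : G))⁻¹ * (g₀ * y * g₀⁻¹) * ((g₀ * (g : G))⁻¹)⁻¹ ∈ H i := by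
              have : (g₀ * (g : G))⁻¹ * (g₀ * y * g₀⁻¹) * ((g₀ * (g : G))⁻¹)⁻¹ =
                  (g : G)⁻¹ * y * g := by group
              rw [this]; exact h1
            simpa using inv_mem (mem_normalizer_of_meet (hB i) hg₀ hy0 h2)⟩
          left_inv := fun m => by ext; simp
          right_inv := fun g => by ext; simp }
    · intro j _ hj
      rw [Finset.sum_eq_zero, mul_zero]
      intro g _
      rw [if_neg]
      rw [mem_punctured]
      rintro ⟨h1, -⟩
      refine hj (hsep i j _ (g⁻¹ * g₀⁻¹) hg₀ hy0 ?_).symm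
      have : g⁻¹ * g₀⁻¹ * (g₀ * y * g₀⁻¹) * (g⁻¹ * g₀⁻¹)⁻¹ = g⁻¹ * y * g := by group
      rw [this]; exact h1
    · intro h; exact absurd (Finset.mem_univ _) h
  have hswap : ∀ i, ∑ y ∈ Finset.univ.erase (1 : G),
      F y * (∑ g : G, if g⁻¹ * y * g ∈ punctured (H i) then (1 : ℝ) else 0) =
      (Nat.card G : ℝ) * ∑ x ∈ punctured (H i), F x := by
    intro i
    have h0 : ∀ g : G, ∑ y ∈ Finset.univ.erase (1 : G),
        F y * (if g⁻¹ * y * g ∈ punctured (H i) then (1 : ℝ) else 0) =
        ∑ x ∈ punctured (H i), F x := by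
      intro g
      simp only [mul_ite, mul_one, mul_zero, ← Finset.sum_filter]
      refine Finset.sum_bij (fun y _ => g⁻¹ * y * g) ?_ ?_ ?_ ?_
      · intro y hy; exact (Finset.mem_filter.mp hy).2
      · intro a _ b _ h; simpa using h
      · intro x hx
        refine ⟨g * x * g⁻¹, ?_, by group⟩
        refine Finset.mem_filter.mpr ⟨Finset.mem_erase.mpr ⟨fun e => ?_, Finset.mem_univ _⟩, ?_⟩
        · exact ((mem_punctured (H i)).mp hx).2 (conj_eq_one_iff.mp e)
        · convert hx using 1; group
      · intro y _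
        have := hF g⁻¹ y
        rw [inv_inv] at this
        exact this.symm
    simp only [Finset.mul_sum]
    rw [Finset.sum_comm]
    simp only [h0, Finset.sum_const, Finset.card_univ, nsmul_eq_mul, Nat.card_eq_fintype_card]
    rw [← Finset.mul_sum]
  calc ∑ y ∈ Finset.univ.erase (1 : G), F y
      = ∑ y ∈ Finset.univ.erase (1 : G), F y * ∑ i, ((Nat.card (normalizer (H i : Set G)) : ℝ))⁻¹ *
          (∑ g : G, if g⁻¹ * y * g ∈ punctured (H i) then (1 : ℝ) else 0) := by
        refine Finset.sum_congr rfl fun y hy => ?_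
        rw [hone y (Finset.mem_erase.mp hy).1, mul_one]
    _ = ∑ i, ((Nat.card (normalizer (H i : Set G)) : ℝ))⁻¹ * ∑ y ∈ Finset.univ.erase (1 : G),
          F y * (∑ g : G, if g⁻¹ * y * g ∈ punctured (H i) then (1 : ℝ) else 0) := by
        simp only [Finset.mul_sum (s := (Finset.univ : Finset ι))]
        rw [Finset.sum_comm]
        refine Finset.sum_congr rfl fun i _ => ?_
        rw [Finset.mul_sum]
        exact Finset.sum_congr rfl fun y _ => by ring
    _ = _ := by
        simp only [hswap, Finset.mul_sum (s := (Finset.univ : Finset ι))]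
        exact Finset.sum_congr rfl fun i _ => by ring

omit [Fintype ι] in
/-- A nilpotent group with abelianisation of prime order is abelian. -/
theorem card_eq_card_linChar_of_prime {K : Subgroup G} (hK : Group.IsNilpotent K) {a : ℕ}
    (hp : a.Prime) (ha : Nat.card (K →* ℂˣ) = a) : Nat.card K = a := by
  haveI := hK
  rw [Chars.card_monoidHom_units] at ha
  have hne : (commutator K) ≠ ⊤ := fun e => by
    rw [e, index_top] at ha; exact hp.ne_one ha.symm
  obtain ⟨x, -, hx⟩ := SetLike.exists_of_lt (lt_top_iff_ne_top.mpr hne)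
  have hcyc : zpowers x = ⊤ := by
    by_contra hne'
    obtain ⟨M, hM, hxM⟩ := (eq_top_or_exists_le_coatom (zpowers x)).resolve_left hne'
    haveI : M.Normal :=
      NormalizerCondition.normal_of_coatom M Group.normalizerCondition_of_isNilpotent hM
    have hsup : commutator K ⊔ zpowers x = ⊤ := by
      have h2 := relIndex_mul_index (le_sup_left : commutator K ≤ commutator K ⊔ zpowers x)
      rw [ha] at h2
      rcases hp.eq_one_or_self_of_dvd _ ⟨_, h2.symm⟩ with h | h
      · exact absurd (relIndex_eq_one.mp h (mem_sup_right (mem_zpowers x))) hx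
      · rw [h] at h2
        exact index_eq_one.mp (Nat.eq_of_mul_eq_mul_left hp.pos (h2.trans (mul_one a).symm))
    have h3 : (commutator K).map (QuotientGroup.mk' M) = ⊤ := by
      have h4 := congrArg (Subgroup.map (QuotientGroup.mk' M)) hsup
      have h5 : (zpowers x).map (QuotientGroup.mk' M) = ⊥ := by
        rw [Subgroup.map_eq_bot_iff, QuotientGroup.ker_mk']; exact hxM
      rwa [Subgroup.map_sup, h5, sup_bot_eq,
        map_top_of_surjective _ (QuotientGroup.mk'_surjective M)] at h4
    haveI : Nontrivial (K ⧸ M) := QuotientGroup.nontrivial_iff.mpr hM.1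
    refine (Group.IsSolvable.commutator_lt_top_of_nontrivial (K ⧸ M)).ne (eq_top_iff.mpr ?_)
    rw [← h3, _root_.commutator_def, _root_.commutator_def, map_commutator]
    exact commutator_mono le_top le_top
  have hbot : commutator K = ⊥ := by
    rw [_root_.commutator_def, commutator_eq_bot_iff_le_centralizer, ← hcyc]
    rintro _ ⟨i, rfl⟩
    exact mem_centralizer_iff.mpr fun y ⟨j, hj⟩ => hj ▸ (Commute.zpow_zpow_self x j i).eq
  rw [← ha, hbot, index_bot]

theorem BlockData.indDiff_lam {K : Subgroup G} (D : BlockData K) (j k : Fin D.s) :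
    indDiff K (D.lam j) (D.lam k) = (D.sgn : ℂ) • ((D.exc j : G → ℂ) - (D.exc k : G → ℂ)) := by
  have h2 := indDiff_add K (D.lam j) (D.lam k) (D.lam D.z)
  rw [D.tau_eq j, D.tau_eq k] at h2
  rw [eq_sub_iff_add_eq.mpr h2, ← smul_sub]
  congr 1
  abel

omit [Fintype ι] in
theorem exc_disjoint (hdis : ∀ i j, i ≠ j → ∀ x g : G, x ∈ H j → x ≠ 1 → g * x * g⁻¹ ∉ H i)
    (D : ∀ i, BlockData (H i)) {i j : ι} (hij : i ≠ j) (a : Fin (D i).s) (b : Fin (D j).s) :
    (D i).exc a ≠ (D j).exc b := by
  classical
  intro h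
  haveI : Nontrivial (Fin (D i).s) := Fin.nontrivial_iff_two_le.mpr (D i).two_le
  haveI : Nontrivial (Fin (D j).s) := Fin.nontrivial_iff_two_le.mpr (D j).two_le
  obtain ⟨c, hc⟩ := exists_ne a
  obtain ⟨d, hd⟩ := exists_ne b
  have h0 := classInner_indDiff_disjoint (H i) (H j) (hdis i j hij) ((D i).lam a) ((D i).lam c)
    ((D j).lam b) ((D j).lam d)
  rw [(D i).indDiff_lam, (D j).indDiff_lam, Chars.classInner_smul_left, Chars.classInner_smul_right,
    map_intCast, Chars.classInner_sub_left, Chars.classInner_sub_right, Chars.classInner_sub_right,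
    Chars.classInner_irr, Chars.classInner_irr, Chars.classInner_irr, Chars.classInner_irr,
    if_pos h, if_neg (show (D i).exc a ≠ (D j).exc d from fun e =>
      hd ((D j).exc_injective (e.symm.trans h))),
    if_neg (show (D i).exc c ≠ (D j).exc b from fun e =>
      hc ((D i).exc_injective (e.trans h.symm)))] at h0
  have hne : ∀ k, ((D k).sgn : ℂ) ≠ 0 := fun k e => by
    have := (D k).sgn_sq
    rw [Int.cast_eq_zero.mp e] at this
    simp at this
  simp only [mul_eq_zero, hne, false_or] at h0
  split_ifs at h0 <;> norm_num at h0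

omit [Fintype ι] in
theorem coef_exc_eq (hdis : ∀ i j, i ≠ j → ∀ x g : G, x ∈ H j → x ≠ 1 → g * x * g⁻¹ ∉ H i)
    (D : ∀ i, BlockData (H i)) {i j : ι} (hij : i ≠ j) (b : Fin (D j).s) :
    (D i).coef ((D j).exc b) = (D i).coef ((D j).exc (D j).z) := by
  have h0 := classInner_indDiff_disjoint (H i) (H j) (hdis i j hij) 1 ((D i).lam (D i).z)
    ((D j).lam b) ((D j).lam (D j).z)
  rw [(D j).tau_eq, Chars.classInner_smul_right, map_intCast, Chars.classInner_sub_right,
    (D i).coef_spec, (D i).coef_spec] at h0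
  have h1 : (D j).sgn * ((D i).coef ((D j).exc b) - (D i).coef ((D j).exc (D j).z)) = 0 := by
    exact_mod_cast h0
  rcases mul_eq_zero.mp h1 with h | h
  · have := (D j).sgn_sq
    rw [h] at this
    simp at this
  · omega

omit [Fintype ι] in
/-- For two blocks, one of the mutual coefficients is nonzero. -/
theorem coef_ne_zero_or (hodd : Odd (Nat.card G))
    (hdis : ∀ i j, i ≠ j → ∀ x g : G, x ∈ H j → x ≠ 1 → g * x * g⁻¹ ∉ H i)
    (D : ∀ i, BlockData (H i)) {i j : ι} (hij : i ≠ j) :
    (D i).coef ((D j).exc (D j).z) ≠ 0 ∨ (D j).coef ((D i).exc (D i).z) ≠ 0 := by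
  classical
  by_contra h
  push Not at h
  have hprod : ∑ φ, (D i).coef φ * (D j).coef φ = 0 := by
    have h0 := classInner_indDiff_disjoint (H i) (H j) (hdis i j hij) 1 ((D i).lam (D i).z)
      1 ((D j).lam (D j).z)
    rw [Chars.classInner_eq_sum_mul_conj
      (Chars.isClassFunction_of_isGeneralizedCharacter (isGeneralizedCharacter_indDiff _ _ _))
      (Chars.isClassFunction_of_isGeneralizedCharacter (isGeneralizedCharacter_indDiff _ _ _))] at h0
    simp only [(D i).coef_spec, (D j).coef_spec, map_intCast] at h0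
    exact_mod_cast h0
  set f : IrrCharacter G → ZMod 2 := fun φ => (((D i).coef φ * (D j).coef φ : ℤ) : ZMod 2) with hf
  have hzero : ∀ φ, ((∃ a, φ = (D i).exc a) ∨ ∃ b, φ = (D j).exc b) → f φ = 0 := by
    rintro φ (⟨a, rfl⟩ | ⟨b, rfl⟩)
    · have := coef_exc_eq H hdis D (Ne.symm hij) a
      simp [hf, this, h.2]
    · have := coef_exc_eq H hdis D hij b
      simp [hf, this, h.1]
  have hrest : ∑ φ ∈ Finset.univ.erase (Chars.trivialIrr G), f φ = 0 := by
    refine Finset.sum_involution (fun φ _ => Chars.irrConj φ) ?_ ?_ ?_ ?_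
    · intro φ _
      by_cases hφ : (∃ a, φ = (D i).exc a) ∨ ∃ b, φ = (D j).exc b
      · rw [hzero φ hφ, zero_add]
        refine hzero _ ?_
        rcases hφ with ⟨a, rfl⟩ | ⟨b, rfl⟩
        · exact Or.inl ((D i).exc_conj a)
        · exact Or.inr ((D j).exc_conj b)
      · push Not at hφ
        have e : f (Chars.irrConj φ) = f φ := by
          simp only [hf, (D i).coef_conj φ hφ.1, (D j).coef_conj φ hφ.2]
        rw [e]
        exact CharTwo.add_self_eq_zero _
    · intro φ hφ _ heq
      refine (Finset.mem_erase.mp hφ).1 (Subtype.ext ?_)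
      exact Burnside.eq_one_of_star_eq_self_of_odd hodd φ.2 fun x => by
        rw [← Chars.irrConj_apply, heq]
    · intro φ hφ
      refine Finset.mem_erase.mpr ⟨fun e => (Finset.mem_erase.mp hφ).1 ?_, Finset.mem_univ _⟩
      have e2 : Chars.irrConj (Chars.trivialIrr G) = Chars.trivialIrr G :=
        Subtype.ext (funext fun x => by simp [Chars.irrConj_apply])
      exact Chars.irrConj.injective (e.trans e2.symm)
    · intro φ _
      exact Subtype.ext (funext fun x => by simp [Chars.irrConj_apply])
  have htot : (∑ φ, f φ) = 0 := by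
    simp only [hf]
    rw [← Int.cast_sum, hprod, Int.cast_zero]
  rw [← Finset.add_sum_erase _ _ (Finset.mem_univ (Chars.trivialIrr G)), hrest, add_zero] at htot
  simp [hf, (D i).coef_trivial, (D j).coef_trivial] at htot

/-- The final contradiction. -/
theorem false_of_family (hodd : Odd (Nat.card G)) [Nonempty ι] (hB : ∀ i, IsCNBlock (H i))
    (hcover : ∀ y : G, y ≠ 1 → ∃ (i : ι) (g : G), g * y * g⁻¹ ∈ H i)
    (hsep : ∀ (i j : ι) (x g : G), x ∈ H i → x ≠ 1 → g * x * g⁻¹ ∈ H j → i = j)
    (hcop : ∀ i j, i ≠ j → (Nat.card (H i)).Coprime (Nat.card (H j)))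
    (hlt : ∀ i, H i < normalizer (H i : Set G)) : False := by
  classical
  have hdis : ∀ i j, i ≠ j → ∀ x g : G, x ∈ H j → x ≠ 1 → g * x * g⁻¹ ∉ H i :=
    fun i j hij x g hx hx1 hg => hij (hsep j i x g hx hx1 hg).symm
  have hD0 : ∀ i, Nonempty (BlockData (H i)) := fun i => exists_blockData (H i) hodd (hB i) (hlt i)
  let D : ∀ i, BlockData (H i) := fun i => (hD0 i).some
  let en : ι → ℕ := fun i => (H i).relIndex (normalizer (H i : Set G))
  let an : ι → ℕ := fun i => Nat.card ((H i) →* ℂˣ)
  have hNc : ∀ i, Nat.card (normalizer (H i : Set G)) = Nat.card (H i) * en i := fun i =>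
    (PSolvable.card_mul_relIndex (hlt i).le).symm
  have ha : ∀ i, an i = (D i).s * en i + 1 := fun i => (D i).card_linChar
  have heodd : ∀ i, Odd (en i) := fun i => hodd.of_dvd_nat
    ((Dvd.intro_left _ (hNc i).symm).trans (card_subgroup_dvd_card _))
  have he3 : ∀ i, 3 ≤ en i := by
    intro i
    have h1 : en i ≠ 1 := fun e => (hlt i).not_ge (relIndex_eq_one.mp e)
    obtain ⟨k, hk⟩ := heodd i
    omega
  have hadvd : ∀ i, an i ∣ Nat.card (H i) := fun i => by
    show Nat.card ((H i) →* ℂˣ) ∣ _
    rw [Chars.card_monoidHom_units]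
    exact index_dvd_card _
  have hane : ∀ i j, i ≠ j → an i ≠ an j := by
    intro i j hij e
    have h1 : an i = 1 := Nat.eq_one_of_dvd_coprimes (hcop i j hij) (hadvd i) (e ▸ hadvd j)
    have h2 := ha i
    have h3 := he3 i
    have h4 := (D i).two_le
    rw [h1] at h2
    nlinarith
  obtain ⟨o, -, ho⟩ := Finset.exists_min_image (Finset.univ : Finset ι) en Finset.univ_nonempty
  set L := (Finset.univ.erase o).filter (fun i => (D i).coef ((D o).exc (D o).z) = 0) with hL
  set K := (Finset.univ.erase o).filter (fun i => ¬ (D i).coef ((D o).exc (D o).z) = 0) with hK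
  -- Bessel
  have hbessel : (∑ i ∈ L, (D i).s) + 1 ≤ en o := by
    obtain ⟨j₀, hj₀⟩ : ∃ j, (D o).coef ((D o).exc j) ≠ 0 := by
      by_contra h0
      push Not at h0
      haveI : Nontrivial (Fin (D o).s) := Fin.nontrivial_iff_two_le.mpr (D o).two_le
      obtain ⟨c, hc⟩ := exists_ne (D o).z
      have h1 := (D o).coef_exc c hc
      rw [h0, h0, zero_add] at h1
      have h2 := (D o).sgn_sq
      rw [← h1] at h2
      simp at h2
    set U := L.biUnion (fun i => Finset.univ.image (D i).exc) with hU
    have hUc : U.card = ∑ i ∈ L, (D i).s := by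
      rw [hU, Finset.card_biUnion]
      · refine Finset.sum_congr rfl fun i _ => ?_
        rw [Finset.card_image_of_injective _ (D i).exc_injective, Finset.card_univ, Fintype.card_fin]
      · intro i _ j _ hij
        simp only [Function.onFun, Finset.disjoint_left, Finset.mem_image, Finset.mem_univ, true_and]
        rintro _ ⟨a, rfl⟩ ⟨b, hb⟩
        exact exc_disjoint H hdis D (Ne.symm hij) b a hb
    have hmem : ∀ φ ∈ U, (D o).coef φ ≠ 0 ∧ φ ≠ (D o).exc j₀ ∧ φ ≠ Chars.trivialIrr G := by
      intro φ hφ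
      simp only [hU, Finset.mem_biUnion, Finset.mem_image, Finset.mem_univ, true_and] at hφ
      obtain ⟨i, hi, a, rfl⟩ := hφ
      rw [hL, Finset.mem_filter, Finset.mem_erase] at hi
      refine ⟨?_, exc_disjoint H hdis D hi.1.1 a j₀, (D i).exc_ne_trivial a⟩
      rw [coef_exc_eq H hdis D (Ne.symm hi.1.1) a]
      exact (coef_ne_zero_or H hodd hdis D (Ne.symm hi.1.1)).resolve_right (not_not.mpr hi.2)
    set V := insert (Chars.trivialIrr G) (insert ((D o).exc j₀) U) with hV
    have hVc : V.card = U.card + 2 := by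
      rw [hV, Finset.card_insert_of_notMem, Finset.card_insert_of_notMem]
      · exact fun h => (hmem _ h).2.1 rfl
      · rw [Finset.mem_insert, not_or]
        exact ⟨((D o).exc_ne_trivial j₀).symm, fun h => (hmem _ h).2.2 rfl⟩
    have hVne : ∀ φ ∈ V, (1 : ℤ) ≤ (D o).coef φ * (D o).coef φ := by
      intro φ hφ
      have : (D o).coef φ ≠ 0 := by
        rw [hV, Finset.mem_insert, Finset.mem_insert] at hφ
        rcases hφ with rfl | rfl | h
        · rw [(D o).coef_trivial]; norm_num
        · exact hj₀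
        · exact (hmem _ h).1
      have := mul_self_pos.mpr this
      omega
    have h1 := Finset.card_nsmul_le_sum V _ 1 hVne
    have h2 : ∑ φ ∈ V, (D o).coef φ * (D o).coef φ ≤ (en o : ℤ) + 1 := by
      rw [← (D o).coef_norm]
      exact Finset.sum_le_sum_of_subset_of_nonneg (Finset.subset_univ _)
        fun φ _ _ => mul_self_nonneg _
    rw [nsmul_eq_mul, mul_one, hVc, hUc] at h1
    have h3 := h1.trans h2
    omega
  -- real quantities
  set g : ℝ := (Nat.card G : ℝ) with hg
  have hgpos : 0 < g := Nat.cast_pos.mpr Nat.card_pos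
  have hg0 : g ≠ 0 := hgpos.ne'
  have hhpos : ∀ i, (0 : ℝ) < Nat.card (H i) := fun i => Nat.cast_pos.mpr Nat.card_pos
  have hepos : ∀ i, (0 : ℝ) < en i := fun i => by
    have := he3 i
    exact_mod_cast (by omega : 0 < en i)
  have hapos : ∀ i, (0 : ℝ) < an i := fun i => by
    have := ha i
    exact_mod_cast (by omega : 0 < an i)
  -- the row
  set θ : IrrCharacter G := (D o).exc (D o).z with hθ
  have hrow : 1 / g + (1 - (en o : ℝ) / an o) + ∑ i ∈ K, ((D i).s : ℝ) / an i ≤ 1 := by
    have h1 : ∑ y : G, Complex.normSq ((θ : G → ℂ) y) = g := by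
      have h := Chars.classInner_irr_self θ
      rw [classInner, inv_mul_eq_iff_eq_mul₀ Chars.natCard_ne_zero, mul_one] at h
      have h' := congrArg Complex.re h
      rw [Complex.re_sum] at h'
      simpa [Complex.mul_conj, hg] using h'
    have hFcl : ∀ a x, Complex.normSq ((θ : G → ℂ) (a * x * a⁻¹)) =
        Complex.normSq ((θ : G → ℂ) x) := fun a x => by rw [Chars.irr_isClassFunction θ x a]
    rw [← Finset.add_sum_erase _ _ (Finset.mem_univ (1 : G)),
      sum_erase_one_eq H hB hcover hsep _ hFcl] at h1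
    have hd : 1 ≤ Complex.normSq ((θ : G → ℂ) 1) := by
      obtain ⟨d, hd0, hd⟩ := Chars.isIrrCharacter_exists_degree_pos θ.2
      rw [hd, Complex.normSq_natCast]
      exact_mod_cast Nat.mul_pos hd0 hd0
    set X : ι → ℝ := fun i => ((Nat.card (normalizer (H i : Set G)) : ℝ))⁻¹ *
      ∑ x ∈ punctured (H i), Complex.normSq ((θ : G → ℂ) x) with hX
    have hXnn : ∀ i, 0 ≤ X i := fun i => mul_nonneg (inv_nonneg.mpr (Nat.cast_nonneg _))
      (Finset.sum_nonneg fun x _ => Complex.normSq_nonneg _)
    have hXo : 1 - (en o : ℝ) / an o ≤ X o := by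
      have hb := (D o).bound_own
      show 1 - (en o : ℝ) / an o ≤
        ((Nat.card (normalizer (H o : Set G)) : ℝ))⁻¹ * _
      rw [hNc o, Nat.cast_mul, one_sub_div (hapos o).ne', inv_mul_eq_div,
        div_le_div_iff₀ (hapos o) (mul_pos (hhpos o) (hepos o))]
      linarith
    have hXK : ∀ i ∈ K, ((D i).s : ℝ) / an i ≤ X i := by
      intro i hi
      rw [hK, Finset.mem_filter, Finset.mem_erase] at hi
      have hb := (D i).bound_other θ
        (fun j => exc_disjoint H hdis D (Ne.symm hi.1.1) (D o).z j) hi.2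
      have hai : (an i : ℝ) = (D i).s * en i + 1 := by exact_mod_cast ha i
      show ((D i).s : ℝ) / an i ≤ ((Nat.card (normalizer (H i : Set G)) : ℝ))⁻¹ * _
      rw [hNc i, Nat.cast_mul, inv_mul_eq_div,
        div_le_div_iff₀ (hapos i) (mul_pos (hhpos i) (hepos i))]
      calc ((D i).s : ℝ) * ((Nat.card (H i) : ℝ) * en i)
          = (Nat.card (H i) : ℝ) * ((an i : ℝ) - 1) := by rw [hai]; ring
        _ ≤ _ := hb
        _ = _ := mul_comm _ _
    have hsum : X o + ∑ i ∈ K, X i ≤ ∑ i, X i := by
      rw [← Finset.add_sum_erase _ _ (Finset.mem_univ o)]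
      exact add_le_add le_rfl
        (Finset.sum_le_sum_of_subset_of_nonneg (Finset.filter_subset _ _) fun i _ _ => hXnn i)
    have hK' := Finset.sum_le_sum hXK
    have h4 : g * ∑ i, X i + 1 ≤ g := by linarith
    have h5 : 1 / g + ∑ i, X i ≤ 1 := by
      rw [div_add' _ _ _ hg0, div_le_one hgpos]
      linarith
    linarith
  -- the class equation
  set T : ι → ℝ := fun i => (1 - 1 / (Nat.card (H i) : ℝ)) / en i with hT
  have hclass : ∑ i, T i = 1 - 1 / g := by
    have h1 := sum_erase_one_eq H hB hcover hsep (fun _ => (1 : ℝ)) (fun _ _ => rfl)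
    simp only [Finset.sum_const, nsmul_eq_mul, mul_one] at h1
    rw [Finset.card_erase_of_mem (Finset.mem_univ _), Finset.card_univ,
      ← Nat.card_eq_fintype_card, Nat.cast_sub Nat.card_pos, Nat.cast_one, ← hg] at h1
    have h2 : ∀ i, ((Nat.card (normalizer (H i : Set G)) : ℝ))⁻¹ * ((punctured (H i)).card : ℝ) = T i := by
      intro i
      have h3 : ((punctured (H i)).card : ℝ) = (Nat.card (H i) : ℝ) - 1 := by
        have h4 : punctured (H i) = (Finset.univ.filter (fun y : G => y ∈ H i)).erase 1 := by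
          ext y; simp [mem_punctured, and_comm]
        rw [h4, Finset.card_erase_of_mem (by simp [one_mem]),
          ← Fintype.card_subtype, ← Nat.card_eq_fintype_card, Nat.cast_sub Nat.card_pos]
        simp
      rw [h3, hNc i, Nat.cast_mul, hT]
      field_simp [(hhpos i).ne', (hepos i).ne']
    simp only [h2] at h1
    field_simp
    linarith
  have hTle : ∀ i, T i ≤ 1 / en i := fun i => by
    show (1 - 1 / (Nat.card (H i) : ℝ)) / en i ≤ 1 / en i
    refine div_le_div_of_nonneg_right ?_ (hepos i).le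
    linarith [one_div_pos.mpr (hhpos i)]
  -- generic bound
  have main : ∀ (f1 w : ℝ) (A : ℕ), T o ≤ f1 → 1 < A → (∀ i, i ≠ o → A ≤ an i) → 0 ≤ w →
      (∀ i ∈ L, T i ≤ w * (D i).s) →
      1 ≤ f1 + (A : ℝ) / ((A : ℝ) - 1) * ((en o : ℝ) / an o) + ((en o : ℝ) - 1) * w := by
    intro f1 w A hf1 hA hAle hw hLw
    have hA' : (1 : ℝ) < A := by exact_mod_cast hA
    set fac : ℝ := (A : ℝ) / ((A : ℝ) - 1) with hfac
    have hfac1 : 1 ≤ fac := by rw [hfac, le_div_iff₀ (by linarith)]; linarith
    have hKb : ∑ i ∈ K, T i ≤ fac * ∑ i ∈ K, ((D i).s : ℝ) / an i := by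
      rw [Finset.mul_sum]
      refine Finset.sum_le_sum fun i hi => ?_
      rw [hK, Finset.mem_filter, Finset.mem_erase] at hi
      refine (hTle i).trans ?_
      have hai : (an i : ℝ) = (D i).s * en i + 1 := by exact_mod_cast ha i
      have hAi : (A : ℝ) ≤ an i := by exact_mod_cast hAle i hi.1.1
      rw [hfac, div_mul_div_comm, div_le_div_iff₀ (hepos i) (mul_pos (by linarith) (hapos i))]
      nlinarith
    have hLb : ∑ i ∈ L, T i ≤ ((en o : ℝ) - 1) * w := by
      refine (Finset.sum_le_sum hLw).trans ?_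
      rw [← Finset.mul_sum, mul_comm]
      refine mul_le_mul_of_nonneg_right ?_ hw
      have : ((∑ i ∈ L, (D i).s : ℕ) : ℝ) + 1 ≤ (en o : ℝ) := by exact_mod_cast hbessel
      push_cast at this
      linarith
    have hsplit : T o + ((∑ i ∈ L, T i) + ∑ i ∈ K, T i) = ∑ i, T i := by
      rw [hL, hK, Finset.sum_filter_add_sum_filter_not, Finset.add_sum_erase _ _ (Finset.mem_univ o)]
    have hK2 : fac * ∑ i ∈ K, ((D i).s : ℝ) / an i ≤ fac * ((en o : ℝ) / an o) - 1 / g := by
      have hginv : 0 ≤ 1 / g := by positivity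
      have h1 := mul_le_mul_of_nonneg_left
        (show ∑ i ∈ K, ((D i).s : ℝ) / an i ≤ (en o : ℝ) / an o - 1 / g by linarith)
        (zero_le_one.trans hfac1)
      nlinarith [mul_le_mul_of_nonneg_right hfac1 hginv]
    linarith
  have hmin : ∀ i, en o ≤ en i := fun i => ho i (Finset.mem_univ i)
  have heR : (3 : ℝ) ≤ en o := by exact_mod_cast he3 o
  rcases Nat.lt_or_ge 2 (D o).s with hs | hs
  · -- at least four orbits
    have hs4 : 4 ≤ (D o).s := by
      obtain ⟨k, hk⟩ := (D o).even_s
      omega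
    have hx := main (1 / en o) (1 / (2 * en o)) (2 * en o + 1) (hTle o)
      (by have := he3 o; omega)
      (fun i _ => by
        have := ha i
        have := (D i).two_le
        have := hmin i
        nlinarith)
      (by positivity)
      (fun i _ => by
        refine (hTle i).trans ?_
        have h1 : (en o : ℝ) ≤ en i := by exact_mod_cast hmin i
        have h2 : (2 : ℝ) ≤ (D i).s := by exact_mod_cast (D i).two_le
        rw [div_mul_eq_mul_div, one_mul, div_le_div_iff₀ (hepos i) (by linarith)]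
        nlinarith)
    push_cast at hx
    have hao : 4 * (en o : ℝ) + 1 ≤ an o := by
      have : 4 * en o + 1 ≤ an o := by have := ha o; nlinarith
      exact_mod_cast this
    have h3 : (en o : ℝ) / an o ≤ (en o : ℝ) / (4 * en o + 1) :=
      div_le_div_of_nonneg_left (hepos o).le (by linarith) hao
    have h4 : (0 : ℝ) ≤ (2 * en o + 1) / (2 * en o + 1 - 1) := by
      apply div_nonneg <;> linarith
    have h5 := mul_le_mul_of_nonneg_left h3 h4
    have hcontra : 1 / (en o : ℝ) + (2 * en o + 1) / (2 * en o + 1 - 1) * ((en o : ℝ) / (4 * en o + 1))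
        + ((en o : ℝ) - 1) * (1 / (2 * en o)) < 1 := by
      have h40 : (4 : ℝ) * en o + 1 ≠ 0 := by linarith
      have he0 : (en o : ℝ) ≠ 0 := (hepos o).ne'
      rw [show (2 : ℝ) * en o + 1 - 1 = 2 * en o by ring]
      field_simp
      nlinarith
    linarith
  · -- two orbits
    have hs2 : (D o).s = 2 := le_antisymm hs (D o).two_le
    have hao : an o = 2 * en o + 1 := by rw [ha o, hs2]
    have haoR : (an o : ℝ) = 2 * en o + 1 := by exact_mod_cast hao
    have hA : ∀ i, i ≠ o → 2 * en o + 3 ≤ an i := by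
      intro i hi
      have h1 := hane i o hi
      have h2 := ha i
      obtain ⟨k, hk⟩ := (D i).even_s
      have h3 := (D i).two_le
      have h4 := hmin i
      have h5 : an i = 2 * (k * en i) + 1 := by rw [h2, hk]; ring
      have h6 : 1 ≤ k := by omega
      have h7 : en o ≤ k * en i := h4.trans (Nat.le_mul_of_pos_left _ h6)
      omega
    have hLw : ∀ i ∈ L, T i ≤ 1 / (2 * ((en o : ℝ) + 2)) * (D i).s := by
      intro i hi
      rw [hL, Finset.mem_filter, Finset.mem_erase] at hi
      refine (hTle i).trans ?_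
      rw [div_mul_eq_mul_div, one_mul, div_le_div_iff₀ (hepos i) (by linarith)]
      rcases eq_or_ne (en i) (en o) with he | he
      · have h4 : (4 : ℝ) ≤ (D i).s := by
          obtain ⟨k, hk⟩ := (D i).even_s
          have h1 : (D i).s ≠ 2 := fun e => hane i o hi.1.1 (by rw [ha i, e, he, hao])
          have := (D i).two_le
          exact_mod_cast (by omega : 4 ≤ (D i).s)
        have h5 : (en i : ℝ) = en o := by exact_mod_cast he
        rw [h5]
        nlinarith
      · have h1 : en o + 2 ≤ en i := by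
          obtain ⟨k, hk⟩ := heodd i
          obtain ⟨l, hl⟩ := heodd o
          have := hmin i
          omega
        have h1R : (en o : ℝ) + 2 ≤ en i := by exact_mod_cast h1
        have h2 : (2 : ℝ) ≤ (D i).s := by exact_mod_cast (D i).two_le
        nlinarith
    rcases Nat.lt_or_ge (en o) 5 with h5 | h5
    · have he : en o = 3 := by
        obtain ⟨k, hk⟩ := heodd o
        have := he3 o
        omega
      have hh : Nat.card (H o) = 7 :=
        card_eq_card_linChar_of_prime (hB o).1 (by norm_num : Nat.Prime 7)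
          (by show an o = 7; omega)
      have hx := main (2 / 7) (1 / (2 * ((en o : ℝ) + 2))) (2 * en o + 3)
        (by
          show (1 - 1 / (Nat.card (H o) : ℝ)) / en o ≤ 2 / 7
          rw [hh, he]; norm_num)
        (by omega) hA (by positivity) hLw
      have heR' : (en o : ℝ) = 3 := by exact_mod_cast he
      push_cast at hx
      rw [haoR, heR'] at hx
      norm_num at hx
    · have hx := main (1 / en o) (1 / (2 * ((en o : ℝ) + 2))) (2 * en o + 3) (hTle o)
        (by omega) hA (by positivity) hLw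
      push_cast at hx
      rw [haoR] at hx
      have h5R : (5 : ℝ) ≤ en o := by exact_mod_cast h5
      have k1 : (2 * (en o : ℝ) + 3) / (2 * en o + 3 - 1) * ((en o : ℝ) / (2 * en o + 1)) < 1 / 2 := by
        rw [div_mul_div_comm, div_lt_div_iff₀ (mul_pos (by linarith) (by linarith)) (by norm_num)]
        nlinarith
      have k2 : 1 / (en o : ℝ) + ((en o : ℝ) - 1) * (1 / (2 * ((en o : ℝ) + 2))) ≤ 1 / 2 := by
        rw [mul_one_div, div_add_div _ _ (hepos o).ne' (by linarith),
          div_le_div_iff₀ (mul_pos (hepos o) (by linarith)) (by norm_num)]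
        nlinarith
      linarith

end Cfsg.Agent.Lib.CNTheorem
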