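import Cfsg.Agent.Lib.CNTheorem.LinearInduction
import Cfsg.Agent.Lib.Burnside.NormalInd
import Cfsg.Agent.S0198

/-!
The exceptional characters attached to a block of a CN-group of odd order, and lower bounds for
their norms on the block.
-/

set_option autoImplicit false
set_option linter.style.haveILetI false

namespace Cfsg.Agent.Lib.CNTheorem

open Subgroup
open Cfsg.Agent.Lib
open scoped ComplexConjugate commutatorElement

universe u

section Projection

variable {K : Type u} [Group K] [Fintype K]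

/-- Comparison with the projection onto the span of the linear characters. -/
theorem projection_ineq [Fintype (K →* ℂˣ)] (θ : K → ℂ) (m : (K →* ℂˣ) → ℤ)
    (hm : ∀ l, classInner θ (linFun l) = (m l : ℂ)) [DecidableEq K] :
    (Nat.card K : ℝ) * ((Nat.card (K →* ℂˣ) : ℝ) * (∑ l, (m l : ℝ) ^ 2) - (∑ l, (m l : ℝ)) ^ 2) ≤
      (Nat.card (K →* ℂˣ) : ℝ) * ∑ y ∈ Finset.univ.erase (1 : K), Complex.normSq (θ y) := by
  classical
  set a := Nat.card (K →* ℂˣ) with ha
  set S := Finset.univ.filter (fun y : K => ∀ l : K →* ℂˣ, l y = 1) with hS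
  have hsum_l : ∀ y, (∑ l : K →* ℂˣ, linFun l y) = if y ∈ S then (a : ℂ) else 0 := by
    intro y
    split_ifs with hy
    · simp only [hS, Finset.mem_filter, Finset.mem_univ, true_and] at hy
      simp [linFun, hy, ha, Nat.card_eq_fintype_card]
    · simp only [hS, Finset.mem_filter, Finset.mem_univ, true_and, not_forall] at hy
      obtain ⟨l₀, hl₀⟩ := hy
      have h1 : (l₀ y : ℂ) * (∑ l : K →* ℂˣ, linFun l y) = ∑ l : K →* ℂˣ, linFun l y := by
        rw [Finset.mul_sum]
        exact Fintype.sum_equiv (Equiv.mulLeft l₀) _ _ fun l => by simp [linFun]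
      have h2 : ((l₀ y : ℂ) - 1) * (∑ l : K →* ℂˣ, linFun l y) = 0 := by
        rw [sub_mul, one_mul, h1, sub_self]
      refine (mul_eq_zero.mp h2).resolve_left fun h => hl₀ (Units.ext ?_)
      exact sub_eq_zero.mp h
  have horth : ∀ l l' : K →* ℂˣ,
      ∑ y, linFun l y * conj (linFun l' y) = if l = l' then (Nat.card K : ℂ) else 0 := by
    intro l l'
    have h := classInner_linFun l l'
    rw [classInner] at h
    rw [(inv_mul_eq_iff_eq_mul₀ Chars.natCard_ne_zero).mp h]
    split_ifs <;> simp
  have hcard : (S.card : ℂ) * a = (Nat.card K : ℂ) := by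
    have h1 : ∑ y, ∑ l : K →* ℂˣ, linFun l y = (S.card : ℂ) * a := by
      simp only [hsum_l, Finset.sum_ite_mem, Finset.univ_inter, Finset.sum_const, nsmul_eq_mul]
    rw [← h1, Finset.sum_comm, Finset.sum_eq_single 1]
    · simp [linFun, Nat.card_eq_fintype_card]
    · intro l _ hl
      have := horth l 1
      rw [if_neg hl] at this
      simpa [linFun] using this
    · intro h; exact absurd (Finset.mem_univ _) h
  set M : ℂ := ∑ l, (m l : ℂ) with hM
  set Q : ℂ := ∑ l, (m l : ℂ) ^ 2 with hQ
  set f : K → ℂ := fun y => ∑ l, (m l : ℂ) * linFun l y with hf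
  have hfS : ∀ y ∈ S, f y = M := by
    intro y hy
    simp only [hS, Finset.mem_filter, Finset.mem_univ, true_and] at hy
    simp [hf, hM, linFun, hy]
  have hθl : ∀ l, ∑ y, θ y * conj (linFun l y) = (Nat.card K : ℂ) * m l := fun l => by
    have h := hm l
    rw [classInner] at h
    exact (inv_mul_eq_iff_eq_mul₀ Chars.natCard_ne_zero).mp h
  have hθS : (a : ℂ) * ∑ y ∈ S, θ y = (Nat.card K : ℂ) * M := by
    calc (a : ℂ) * ∑ y ∈ S, θ y = ∑ y, θ y * conj (∑ l : K →* ℂˣ, linFun l y) := by
          simp only [hsum_l, apply_ite (starRingEnd ℂ), map_natCast, map_zero, mul_ite, mul_zero,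
            Finset.sum_ite_mem, Finset.univ_inter, mul_comm (a : ℂ)]
          rw [Finset.sum_mul]
      _ = _ := by
          simp only [map_sum, Finset.mul_sum]
          rw [Finset.sum_comm]
          simp only [hθl, hM, Finset.mul_sum]
  have hθf : ∑ y, θ y * conj (f y) = (Nat.card K : ℂ) * Q := by
    simp only [hf, map_sum, map_mul, map_intCast, Finset.mul_sum, mul_left_comm (θ _)]
    rw [Finset.sum_comm]
    simp only [← Finset.mul_sum, hθl]
    rw [hQ, Finset.mul_sum]
    exact Finset.sum_congr rfl fun l _ => by ring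
  have hff : ∑ y, f y * conj (f y) = (Nat.card K : ℂ) * Q := by
    simp only [hf, map_sum, map_mul, map_intCast, Finset.mul_sum, Finset.sum_mul]
    rw [Finset.sum_comm]
    refine (Finset.sum_congr rfl fun l _ => Finset.sum_comm).trans ?_
    rw [hQ, Finset.mul_sum]
    refine Finset.sum_congr rfl fun l _ => ?_
    calc ∑ i, ∑ y, (m i : ℂ) * linFun i y * ((m l : ℂ) * conj (linFun l y))
        = ∑ i, (m i : ℂ) * m l * ∑ y, linFun i y * conj (linFun l y) := by
          simp only [Finset.mul_sum]
          exact Finset.sum_congr rfl fun i _ => Finset.sum_congr rfl fun y _ => by ring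
      _ = _ := by
          simp only [horth, mul_ite, mul_zero, Finset.sum_ite_eq', Finset.mem_univ, if_true]
          ring
  -- pass to real parts
  set MR : ℝ := ∑ l, (m l : ℝ) with hMR
  set QR : ℝ := ∑ l, (m l : ℝ) ^ 2 with hQR
  have eM : M = (MR : ℂ) := by simp [hM, hMR]
  have eQ : Q = (QR : ℂ) := by simp [hQ, hQR]
  have h1 : ∑ y, (θ y * conj (f y)).re = (Nat.card K : ℝ) * QR := by
    rw [← Complex.re_sum, hθf, eQ]; simp
  have h2 : ∑ y, Complex.normSq (f y) = (Nat.card K : ℝ) * QR := by
    have := congrArg Complex.re hff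
    rw [Complex.re_sum, eQ] at this
    simpa [Complex.mul_conj] using this
  have h3 : (a : ℝ) * ∑ y ∈ S, (θ y * conj (f y)).re = (Nat.card K : ℝ) * MR ^ 2 := by
    have e1 : ∀ y ∈ S, (θ y * conj (f y)).re = MR * (θ y).re := fun y hy => by
      rw [hfS y hy, eM, Complex.conj_ofReal, Complex.re_mul_ofReal, mul_comm]
    rw [Finset.sum_congr rfl e1, ← Finset.mul_sum]
    have := congrArg Complex.re hθS
    rw [eM] at this
    simp only [Complex.re_sum, Complex.mul_re, Complex.natCast_re, Complex.natCast_im, zero_mul,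
      sub_zero, Complex.ofReal_re, Complex.ofReal_im] at this
    rw [mul_left_comm, this]; ring
  have h4 : ∑ y ∈ S, Complex.normSq (f y) = (S.card : ℝ) * MR ^ 2 := by
    rw [Finset.sum_congr rfl fun y hy => by rw [hfS y hy, eM, Complex.normSq_ofReal],
      Finset.sum_const, nsmul_eq_mul]
    ring
  have hcardR : (S.card : ℝ) * a = (Nat.card K : ℝ) := by exact_mod_cast hcard
  have hsplit : ∀ g : K → ℝ, ∑ y, g y = ∑ y ∈ S, g y + ∑ y ∈ Sᶜ, g y := fun g =>
    (Finset.sum_add_sum_compl S g).symm
  have hnn : 0 ≤ ∑ y ∈ Sᶜ, Complex.normSq (θ y - f y) :=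
    Finset.sum_nonneg fun y _ => Complex.normSq_nonneg _
  simp only [Complex.normSq_sub, Finset.sum_sub_distrib, Finset.sum_add_distrib,
    ← Finset.mul_sum] at hnn
  rw [hsplit] at h1 h2
  have hle : ∑ y ∈ Sᶜ, Complex.normSq (θ y) ≤
      ∑ y ∈ Finset.univ.erase (1 : K), Complex.normSq (θ y) := by
    refine Finset.sum_le_sum_of_subset_of_nonneg (fun y hy => ?_) fun y _ _ => Complex.normSq_nonneg _
    refine Finset.mem_erase.mpr ⟨fun e => ?_, Finset.mem_univ _⟩
    refine Finset.mem_compl.mp hy ?_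
    simp [hS, e]
  have ha0 : (0 : ℝ) ≤ a := Nat.cast_nonneg a
  nlinarith [mul_le_mul_of_nonneg_left hle ha0, mul_nonneg ha0 hnn]

end Projection

theorem quad_shift {ι : Type*} [Fintype ι] (r : ι → ℝ) (b : ℝ) :
    (Fintype.card ι : ℝ) * (∑ i, (r i + b) ^ 2) - (∑ i, (r i + b)) ^ 2 =
      (Fintype.card ι : ℝ) * (∑ i, r i ^ 2) - (∑ i, r i) ^ 2 := by
  simp only [add_sq, Finset.sum_add_distrib, ← Finset.sum_mul, ← Finset.mul_sum, Finset.sum_const,
    nsmul_eq_mul, Finset.card_univ]
  ring

variable {G : Type u} [Group G] [Fintype G] (H : Subgroup G)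

theorem card_orbit_linChar (hB : IsCNBlock H) {l : H →* ℂˣ} (hl : l ≠ 1) :
    Nat.card {ν : H →* ℂˣ // ∃ n, ν = linConj H n l} = H.relIndex (normalizer (H : Set G)) := by
  set N := normalizer (H : Set G) with hN
  let f : N ⧸ H.subgroupOf N → {ν : H →* ℂˣ // ∃ n, ν = linConj H n l} :=
    fun q => ⟨linConj H q.out l, q.out, rfl⟩
  have hf : Function.Bijective f := by
    constructor
    · intro a b h
      have h1 : linConj H (a.out⁻¹ * b.out) l = l := by
        have h' : linConj H a.out l = linConj H b.out l := congrArg Subtype.val h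
        rw [linConj_mul, ← h', ← linConj_mul, inv_mul_cancel, linConj_one]
      have h2 : a.out⁻¹ * b.out ∈ H.subgroupOf N :=
        mem_subgroupOf.mpr (mem_of_linConj_eq H hB hl h1)
      rwa [← QuotientGroup.eq, QuotientGroup.out_eq', QuotientGroup.out_eq'] at h2
    · rintro ⟨ν, n, rfl⟩
      refine ⟨(n : N ⧸ H.subgroupOf N), Subtype.ext ?_⟩
      show linConj H (n : N ⧸ H.subgroupOf N).out l = _
      obtain ⟨m, hm⟩ := QuotientGroup.mk_out_eq_mul (H.subgroupOf N) n
      rw [hm, linConj_mul, linConj_of_mem H _ (mem_subgroupOf.mp m.2)]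
  rw [← Nat.card_congr (Equiv.ofBijective f hf), ← Subgroup.index_eq_card]
  rfl

open scoped Classical in
/-- The nonidentity elements of `H`. -/
noncomputable def punctured : Finset G := Finset.univ.filter (fun y : G => y ∈ H ∧ y ≠ 1)

theorem mem_punctured {y : G} : y ∈ punctured H ↔ y ∈ H ∧ y ≠ 1 := by
  simp [punctured]

/-- The character data attached to a block. -/
structure BlockData where
  /-- Number of orbits of nontrivial linear characters. -/
  s : ℕ
  /-- A distinguished orbit. -/
  z : Fin s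
  /-- Orbit representatives. -/
  lam : Fin s → (H →* ℂˣ)
  /-- The sign. -/
  sgn : ℤ
  /-- The exceptional characters. -/
  exc : Fin s → IrrCharacter G
  /-- The coefficients of the auxiliary generalized character. -/
  coef : IrrCharacter G → ℤ
  two_le : 2 ≤ s
  even_s : Even s
  sgn_sq : sgn * sgn = 1
  exc_injective : Function.Injective exc
  tau_eq : ∀ j, indDiff H (lam j) (lam z) = (sgn : ℂ) • ((exc j : G → ℂ) - (exc z : G → ℂ))
  coef_spec : ∀ φ : IrrCharacter G, classInner (indDiff H 1 (lam z)) (φ : G → ℂ) = (coef φ : ℂ)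
  coef_trivial : coef (Chars.trivialIrr G) = 1
  coef_exc : ∀ j, j ≠ z → coef (exc j) = coef (exc z) + sgn
  coef_norm : ∑ φ, coef φ * coef φ = (H.relIndex (normalizer (H : Set G)) : ℤ) + 1
  exc_ne_trivial : ∀ j, exc j ≠ Chars.trivialIrr G
  exc_conj : ∀ j, ∃ k, Chars.irrConj (exc j) = exc k
  coef_conj : ∀ φ, (∀ j, φ ≠ exc j) → coef (Chars.irrConj φ) = coef φ
  card_linChar : Nat.card (H →* ℂˣ) = s * H.relIndex (normalizer (H : Set G)) + 1
  bound_own : (Nat.card H : ℝ) * ((H.relIndex (normalizer (H : Set G)) : ℝ) *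
      ((Nat.card (H →* ℂˣ) : ℝ) - H.relIndex (normalizer (H : Set G)))) ≤
    (Nat.card (H →* ℂˣ) : ℝ) *
      ∑ y ∈ punctured H,
        Complex.normSq ((exc z : G → ℂ) y)
  bound_other : ∀ φ, (∀ j, φ ≠ exc j) → coef φ ≠ 0 →
    (Nat.card H : ℝ) * ((Nat.card (H →* ℂˣ) : ℝ) - 1) ≤
      (Nat.card (H →* ℂˣ) : ℝ) *
        ∑ y ∈ punctured H, Complex.normSq ((φ : G → ℂ) y)

theorem sum_erase_one_coe [DecidableEq H] (f : G → ℝ) :
    ∑ y ∈ (Finset.univ : Finset H).erase 1, f y =
      ∑ y ∈ punctured H, f y := by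
  classical
  refine Finset.sum_bij (fun y _ => (y : G)) ?_ (fun a _ b _ h => Subtype.ext h) ?_ (fun _ _ => rfl)
  · intro y hy
    simp only [Finset.mem_erase, Finset.mem_univ, and_true] at hy
    rw [mem_punctured]
    exact ⟨y.2, fun e => hy (Subtype.ext e)⟩
  · intro y hy
    rw [mem_punctured] at hy
    exact ⟨⟨y, hy.1⟩, Finset.mem_erase.mpr ⟨fun e => hy.2 (congrArg Subtype.val e),
      Finset.mem_univ _⟩, rfl⟩

theorem linInv_ne_one {K : Type u} [Group K] {l : K →* ℂˣ} (hl : l ≠ 1) : l⁻¹ ≠ 1 := fun h =>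
  hl (MonoidHom.ext fun x => by
    have h1 := DFunLike.congr_fun h x
    simp only [MonoidHom.inv_apply, MonoidHom.one_apply, inv_eq_one] at h1
    rw [h1, MonoidHom.one_apply])

theorem linInv_one {K : Type u} [Group K] : (1 : K →* ℂˣ)⁻¹ = 1 :=
  MonoidHom.ext fun x => by simp

theorem exists_blockData (hodd : Odd (Nat.card G)) (hB : IsCNBlock H)
    (hlt : H < normalizer (H : Set G)) : Nonempty (BlockData H) := by
  classical
  haveI := finite_linChar H
  letI : Fintype (H →* ℂˣ) := Fintype.ofFinite _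
  obtain ⟨s, lam, hlam1, hlaminj, hlamcov, hcard⟩ := exists_linChar_reps H hB
  set N := normalizer (H : Set G) with hN
  set e := H.relIndex N with he
  haveI := hB.1
  haveI := (H.nontrivial_iff_ne_bot).mpr hB.2.1
  have ha : 1 < Nat.card (H →* ℂˣ) := by
    rw [Chars.card_monoidHom_units]
    have h0 : (commutator H).index ≠ 1 := fun h =>
      (Group.IsSolvable.commutator_lt_top_of_nontrivial H).ne (index_eq_one.mp h)
    have := (index_ne_zero_of_finite (H := commutator H))
    omega
  have haodd : Odd (Nat.card (H →* ℂˣ)) := by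
    rw [Chars.card_monoidHom_units]
    exact hodd.of_dvd_nat ((index_dvd_card _).trans (card_subgroup_dvd_card H))
  have heodd : Odd e :=
    hodd.of_dvd_nat ((Dvd.intro_left _ (PSolvable.card_mul_relIndex hlt.le)).trans
      (card_subgroup_dvd_card N))
  have hs : Even s := by
    rw [hcard] at haodd
    rcases Nat.even_or_odd s with h | h
    · exact h
    · exact absurd haodd (Nat.not_odd_iff_even.mpr ((h.mul heodd).add_odd odd_one))
  have hs2 : 2 ≤ s := by
    obtain ⟨k, hk⟩ := hs
    rcases Nat.eq_zero_or_pos s with h | h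
    · rw [h, zero_mul] at hcard; omega
    · omega
  let z : Fin s := ⟨0, by omega⟩
  -- the exceptional characters
  have hsame : ∀ j k, orbitPair H (lam j) (lam k) = if j = k then 1 else 0 := by
    intro j k
    split_ifs with hjk
    · exact orbitPair_eq_one H hB (hlam1 k) (k := 1) (by rw [linConj_one, hjk])
    · exact orbitPair_eq_zero H fun n h => hjk (hlaminj j k n h)
  obtain ⟨ε, hε, μ, hμ, hμinj, hτ⟩ := Cfsg.Agent.S0198.result s z
    (fun j => indDiff H (lam j) (lam z))
    (by simp [indDiff, Chars.indFun_zero])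
    (fun j => isGeneralizedCharacter_indDiff H _ _) (fun j => indDiff_apply_one H _ _)
    (by
      intro j k hj hk
      rw [classInner_indDiff H hB]
      simp only [hsame, if_neg hj, if_neg (Ne.symm hk), if_true]
      split_ifs <;> norm_num)
  obtain ⟨εi, hεi, hεsq⟩ : ∃ εi : ℤ, (εi : ℂ) = ε ∧ εi * εi = 1 := by
    rcases hε with rfl | rfl
    · exact ⟨1, by simp, rfl⟩
    · exact ⟨-1, by simp, rfl⟩
  subst hεi
  let exc : Fin s → IrrCharacter G := fun j => ⟨μ j, hμ j⟩
  have hexcinj : Function.Injective exc := fun a b h => hμinj (congrArg Subtype.val h)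
  have htau : ∀ j, indDiff H (lam j) (lam z) =
      (εi : ℂ) • ((exc j : G → ℂ) - (exc z : G → ℂ)) := hτ
  -- differences of nontrivial linear characters
  have hdiff : ∀ ν ρ : H →* ℂˣ, ν ≠ 1 → ρ ≠ 1 → ∃ j k, indDiff H ν ρ =
      (εi : ℂ) • ((exc j : G → ℂ) - (exc k : G → ℂ)) := by
    intro ν ρ hν hρ
    obtain ⟨j, n, rfl⟩ := hlamcov ν hν
    obtain ⟨k, n', rfl⟩ := hlamcov ρ hρ
    refine ⟨j, k, ?_⟩
    have h1 := indDiff_add H (lam j) (lam k) (lam z)
    rw [htau j, htau k] at h1
    rw [indDiff_linConj, eq_sub_iff_add_eq.mpr h1, ← smul_sub]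
    congr 1
    abel
  set Γ := indDiff H 1 (lam z) with hΓ
  have hΓgen := isGeneralizedCharacter_indDiff H 1 (lam z)
  choose γ hγ using fun φ : IrrCharacter G => Chars.isGeneralizedCharacter_classInner_int hΓgen
    (Chars.isGeneralizedCharacter_of_isCharacter (Chars.irr_isCharacter φ))
  have hγ' : ∀ φ : IrrCharacter G, classInner (φ : G → ℂ) Γ = (γ φ : ℂ) := fun φ => by
    rw [← Chars.conj_classInner, hγ φ, map_intCast]
  -- inner products of irreducible characters with differences
  have hip : ∀ (φ : IrrCharacter G) (j k : Fin s), classInner (φ : G → ℂ)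
      ((εi : ℂ) • ((exc j : G → ℂ) - (exc k : G → ℂ))) =
      (εi : ℂ) * ((if φ = exc j then 1 else 0) - (if φ = exc k then 1 else 0)) := by
    intro φ j k
    rw [Chars.classInner_smul_right, map_intCast, Chars.classInner_sub_right, Chars.classInner_irr,
      Chars.classInner_irr]
  have hΓτ : ∀ j, j ≠ z → classInner Γ (indDiff H (lam j) (lam z)) = 1 := by
    intro j hj
    rw [hΓ, classInner_indDiff H hB, orbitPair_one_left H (hlam1 j),
      orbitPair_one_left H (hlam1 z), hsame, hsame, if_neg (Ne.symm hj), if_pos rfl]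
    norm_num
  have hcoef_exc : ∀ j, j ≠ z → γ (exc j) = γ (exc z) + εi := by
    intro j hj
    have h1 := hΓτ j hj
    rw [htau j, Chars.classInner_smul_right, map_intCast, Chars.classInner_sub_right, hγ, hγ] at h1
    have h2 : εi * (γ (exc j) - γ (exc z)) = 1 := by exact_mod_cast h1
    linear_combination εi * h2 - (γ (exc j) - γ (exc z)) * hεsq
  have hres_one : ∀ l : H →* ℂˣ,
      classInner (fun h : H => (Chars.trivialIrr G : G → ℂ) h) (linFun l) =
        if (1 : H →* ℂˣ) = l then 1 else 0 := by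
    intro l
    rw [← classInner_linFun]
    congr 1
  have hmd : ∀ (φ : IrrCharacter G) (l l' : H →* ℂˣ),
      classInner (fun h : H => (φ : G → ℂ) h) (linFun l) -
        classInner (fun h : H => (φ : G → ℂ) h) (linFun l') =
      classInner (φ : G → ℂ) (indDiff H l l') := by
    intro φ l l'
    rw [indDiff, Chars.classInner_indFun_right _ _ _ (Chars.irr_isClassFunction φ),
      Chars.classInner_sub_right]
  have htriv : γ (Chars.trivialIrr G) = 1 := by
    have h1 := hγ' (Chars.trivialIrr G)
    rw [hΓ, ← hmd, hres_one, hres_one, if_pos rfl, if_neg (Ne.symm (hlam1 z)), sub_zero] at h1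
    exact_mod_cast h1.symm
  have hnorm : ∑ φ, γ φ * γ φ = (e : ℤ) + 1 := by
    have h1 : classInner Γ Γ = (e : ℂ) + 1 := by
      rw [hΓ, classInner_indDiff H hB, orbitPair_one_one, orbitPair_one_left H (hlam1 z),
        orbitPair_one_right H (hlam1 z), hsame, if_pos rfl, ← he]
      ring
    rw [Chars.classInner_eq_sum_mul_conj (Chars.isClassFunction_of_isGeneralizedCharacter hΓgen)
      (Chars.isClassFunction_of_isGeneralizedCharacter hΓgen)] at h1
    simp only [hΓ, hγ, map_intCast] at h1
    exact_mod_cast h1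
  have hnontriv : ∀ j, exc j ≠ Chars.trivialIrr G := by
    intro j hj
    obtain ⟨k, hk⟩ : ∃ k, k ≠ z := ⟨⟨1, by omega⟩, fun h => by simp [z, Fin.ext_iff] at h⟩
    have h0 : ∀ i, classInner (Chars.trivialIrr G : G → ℂ) (indDiff H (lam i) (lam z)) = 0 := by
      intro i
      rw [← hmd, hres_one, hres_one, if_neg (Ne.symm (hlam1 i)), if_neg (Ne.symm (hlam1 z)),
        sub_zero]
    have hε0 : (εi : ℂ) ≠ 0 := by
      intro h
      rw [Int.cast_eq_zero] at h
      rw [h] at hεsq
      simp at hεsq
    rcases eq_or_ne j z with rfl | hjz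
    · have h1 := h0 k
      rw [htau, hip, ← hj, if_neg (fun h => hk (hexcinj h).symm), if_pos rfl] at h1
      simp [hε0] at h1
    · have h1 := h0 j
      rw [htau, hip, ← hj, if_pos rfl, if_neg (fun h => hjz (hexcinj h))] at h1
      simp [hε0] at h1
  -- complex conjugation
  have hexc_conj : ∀ j, ∃ k, Chars.irrConj (exc j) = exc k := by
    intro j
    obtain ⟨k, hk⟩ : ∃ k, k ≠ j := by
      by_cases hj : (j : ℕ) = 0
      · exact ⟨⟨1, by omega⟩, fun h => by simp [Fin.ext_iff, hj] at h⟩
      · exact ⟨z, fun h => hj (by rw [← h])⟩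
    have hinvne : ∀ l : H →* ℂˣ, l ≠ 1 → l⁻¹ ≠ 1 := fun l hl => linInv_ne_one hl
    obtain ⟨x, y, hxy⟩ := hdiff (lam j)⁻¹ (lam k)⁻¹ (hinvne _ (hlam1 j)) (hinvne _ (hlam1 k))
    refine ⟨x, ?_⟩
    have h1 : indDiff H (lam j)⁻¹ (lam k)⁻¹ =
        (εi : ℂ) • ((Chars.irrConj (exc j) : G → ℂ) - (Chars.irrConj (exc k) : G → ℂ)) := by
      have h2 := indDiff_add H (lam j) (lam k) (lam z)
      rw [htau j, htau k] at h2
      funext g
      rw [← conj_indDiff, eq_sub_iff_add_eq.mpr h2]
      simp [Chars.irrConj_apply, map_intCast]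
      ring
    rw [h1] at hxy
    by_contra hne
    have h3 := congrArg (classInner ((Chars.irrConj (exc j) : IrrCharacter G) : G → ℂ)) hxy
    rw [hip, Chars.classInner_smul_right, map_intCast, Chars.classInner_sub_right,
      Chars.classInner_irr, Chars.classInner_irr, if_pos rfl,
      if_neg (fun h => hk (hexcinj (Chars.irrConj.injective h)).symm), if_neg hne] at h3
    have hε0 : (εi : ℂ) ≠ 0 := by
      intro h
      rw [Int.cast_eq_zero] at h
      rw [h] at hεsq
      simp at hεsq
    have h4 := mul_left_cancel₀ hε0 h3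
    split_ifs at h4 <;> norm_num at h4
  have hcoef_conj : ∀ φ, (∀ j, φ ≠ exc j) → γ (Chars.irrConj φ) = γ φ := by
    intro φ hφ
    have h1 : classInner Γ (Chars.irrConj φ : G → ℂ) =
        conj (classInner (fun g => conj (Γ g)) (φ : G → ℂ)) := by
      simp [classInner, map_sum, Chars.irrConj_apply]
    have h2 : (fun g => conj (Γ g)) = Γ + indDiff H (lam z) (lam z)⁻¹ := by
      funext g
      rw [hΓ, indDiff_add, conj_indDiff, linInv_one]
    have h3 : classInner (indDiff H (lam z) (lam z)⁻¹) (φ : G → ℂ) = 0 := by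
      obtain ⟨j, k, hjk⟩ := hdiff (lam z) (lam z)⁻¹ (hlam1 z) (linInv_ne_one (hlam1 z))
      rw [hjk, ← Chars.conj_classInner, hip, if_neg (hφ j), if_neg (hφ k)]
      simp
    rw [hγ, h2, Chars.classInner_add_left, hγ, h3, add_zero, map_intCast] at h1
    exact_mod_cast h1
  -- the two bounds
  have hmint : ∀ (φ : IrrCharacter G) (l : H →* ℂˣ), ∃ k : ℤ,
      classInner (fun h : H => (φ : G → ℂ) h) (linFun l) = k := fun φ l =>
    Chars.isGeneralizedCharacter_classInner_int
      (Chars.isGeneralizedCharacter_of_isCharacter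
        (Chars.isCharacter_restrict H (Chars.irr_isCharacter φ)))
      (Chars.isGeneralizedCharacter_of_isCharacter (Chars.isCharacter_hom l))
  choose m hm using hmint
  have hm0 : ∀ φ, m φ 1 - m φ (lam z) = γ φ := by
    intro φ
    have h1 := hmd φ 1 (lam z)
    rw [hm, hm, hγ'] at h1
    exact_mod_cast h1
  have hmorb : ∀ φ j n, m φ (linConj H n (lam j)) - m φ (lam z) =
      εi * ((if φ = exc j then 1 else 0) - (if φ = exc z then 1 else 0)) := by
    intro φ j n
    have h1 := hmd φ (linConj H n (lam j)) (lam z)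
    have h2 : indDiff H (linConj H n (lam j)) (lam z) = indDiff H (lam j) (lam z) := by
      conv_lhs => rw [← linConj_one H (lam z)]
      rw [indDiff_linConj]
    rw [hm, hm, h2, htau, hip] at h1
    apply Int.cast_injective (α := ℂ)
    rw [Int.cast_sub, h1, Int.cast_mul, Int.cast_sub, apply_ite (Int.cast : ℤ → ℂ),
      apply_ite (Int.cast : ℤ → ℂ), Int.cast_one, Int.cast_zero]
  have hfin : Fintype.card (H →* ℂˣ) = Nat.card (H →* ℂˣ) := Nat.card_eq_fintype_card.symm
  have hproj : ∀ (φ : IrrCharacter G) (r : (H →* ℂˣ) → ℝ) (b : ℝ),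
      (∀ l, (m φ l : ℝ) = r l + b) →
      (Nat.card H : ℝ) * ((Nat.card (H →* ℂˣ) : ℝ) * (∑ l, r l ^ 2) - (∑ l, r l) ^ 2) ≤
        (Nat.card (H →* ℂˣ) : ℝ) *
          ∑ y ∈ punctured H,
            Complex.normSq ((φ : G → ℂ) y) := by
    intro φ r b hr
    have h1 := projection_ineq (fun h : H => (φ : G → ℂ) h) (m φ) (hm φ)
    simp only [hr] at h1
    rw [← hfin, quad_shift r b, hfin] at h1
    rw [← sum_erase_one_coe H (fun y => Complex.normSq ((φ : G → ℂ) y))]
    exact h1
  refine ⟨
    { s := s, z := z, lam := lam, sgn := εi, exc := exc, coef := γ, two_le := hs2, even_s := hs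
      sgn_sq := hεsq, exc_injective := hexcinj, tau_eq := htau, coef_spec := hγ
      coef_trivial := htriv, coef_exc := hcoef_exc, coef_norm := hnorm
      exc_ne_trivial := hnontriv, exc_conj := hexc_conj, coef_conj := hcoef_conj
      card_linChar := hcard, bound_own := ?_, bound_other := ?_ }⟩
  · -- own block
    set c : ℝ := (γ (exc z) : ℝ) + εi with hc
    set O := Finset.univ.filter (fun l : H →* ℂˣ => ∃ n, l = linConj H n (lam z)) with hO
    have hOc : O.card = e := by
      rw [he, ← card_orbit_linChar H hB (hlam1 z), Nat.card_eq_fintype_card, Fintype.card_subtype]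
    let r : (H →* ℂˣ) → ℝ := fun l =>
      (if l = 1 then c else 0) + (if l ∈ O then (εi : ℝ) else 0)
    have h1O : (1 : H →* ℂˣ) ∉ O := by
      simp only [hO, Finset.mem_filter, Finset.mem_univ, true_and, not_exists]
      intro n h
      refine hlam1 z ?_
      have := congrArg (linConj H n⁻¹) h
      rwa [linConj_one_char, ← linConj_mul, inv_mul_cancel, linConj_one, eq_comm] at this
    have hr : ∀ l, (m (exc z) l : ℝ) = r l + ((m (exc z) (lam z) : ℝ) - εi) := by
      intro l
      rcases eq_or_ne l 1 with rfl | hl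
      · simp only [r, if_pos, if_neg h1O, hc]
        have := hm0 (exc z)
        rw [← this]; push_cast; ring
      · obtain ⟨j, n, rfl⟩ := hlamcov l hl
        have h1 := hmorb (exc z) j n
        simp only [r, if_neg hl]
        rcases eq_or_ne j z with rfl | hjz
        · have : linConj H n (lam z) ∈ O :=
            Finset.mem_filter.mpr ⟨Finset.mem_univ _, n, rfl⟩
          rw [if_pos this]
          simp only [if_true, sub_self, mul_zero] at h1
          rw [sub_eq_zero.mp h1]; ring
        · have : linConj H n (lam j) ∉ O := by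
            simp only [hO, Finset.mem_filter, Finset.mem_univ, true_and, not_exists]
            intro n' h
            refine hjz (hlaminj j z (n⁻¹ * n') ?_)
            rw [linConj_mul, ← h, ← linConj_mul, inv_mul_cancel, linConj_one]
          rw [if_neg this]
          rw [if_neg (fun h => hjz (hexcinj h).symm), if_pos rfl] at h1
          have h2 : m (exc z) (linConj H n (lam j)) = m (exc z) (lam z) - εi := by linarith
          rw [h2]; push_cast; ring
    refine le_trans (mul_le_mul_of_nonneg_left ?_ (Nat.cast_nonneg _)) (hproj (exc z) r _ hr)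
    have hs1 : ∑ l, r l = c + εi * (e : ℝ) := by
      simp only [r, Finset.sum_add_distrib, Finset.sum_ite_eq', Finset.mem_univ, if_true,
        Finset.sum_ite_mem, Finset.univ_inter, Finset.sum_const, nsmul_eq_mul, hOc]
      ring
    have hs2' : ∑ l, r l ^ 2 = c ^ 2 + (e : ℝ) := by
      have : ∀ l, r l ^ 2 = (if l = 1 then c ^ 2 else 0) + (if l ∈ O then (1 : ℝ) else 0) := by
        intro l
        simp only [r]
        rcases eq_or_ne l 1 with rfl | hl
        · simp [h1O]
        · rw [if_neg hl, if_neg hl, zero_add, zero_add]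
          split_ifs
          · rw [sq]; exact_mod_cast hεsq
          · simp
      simp only [this, Finset.sum_add_distrib, Finset.sum_ite_eq', Finset.mem_univ, if_true,
        Finset.sum_ite_mem, Finset.univ_inter, Finset.sum_const, nsmul_eq_mul, hOc, mul_one]
    rw [hs1, hs2']
    have hεr : (εi : ℝ) * εi = 1 := by exact_mod_cast hεsq
    have hA : (2 * e : ℝ) ≤ (Nat.card (H →* ℂˣ) : ℝ) - 1 := by
      rw [hcard]; push_cast
      have : (2 : ℝ) ≤ s := by exact_mod_cast hs2
      have : (0 : ℝ) ≤ e := Nat.cast_nonneg e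
      nlinarith
    have hci : c = 0 ∨ 1 ≤ |c| := by
      have : c = ((γ (exc z) + εi : ℤ) : ℝ) := by rw [hc]; push_cast; ring
      rw [this]
      rcases eq_or_ne (γ (exc z) + εi) 0 with h | h
      · exact Or.inl (by rw [h]; simp)
      · exact Or.inr (by exact_mod_cast Int.one_le_abs h)
    rcases hci with h0 | h1
    · rw [h0]; nlinarith
    · have habs : (εi : ℝ) * c ≤ |c| := by
        rcases mul_self_eq_one_iff.mp hεsq with h | h <;> rw [h] <;> push_cast
        · rw [one_mul]; exact le_abs_self c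
        · rw [neg_one_mul]; exact neg_le_abs c
      have he0 : (0 : ℝ) ≤ e := Nat.cast_nonneg e
      have hc2 : c ^ 2 = |c| ^ 2 := (sq_abs c).symm
      have k1 := mul_le_mul_of_nonneg_right hA (sq_nonneg c)
      have k2 := mul_le_mul_of_nonneg_left habs he0
      have k3 := mul_le_mul_of_nonneg_left h1 (mul_nonneg he0 (abs_nonneg c))
      have k4 : (e : ℝ) * c ^ 2 = e * |c| ^ 2 := by rw [hc2]
      have k5 : ((εi : ℝ) * e) ^ 2 = (e : ℝ) ^ 2 := by rw [mul_pow, sq, hεr, one_mul]
      nlinarith
  · intro φ hφ hne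
    let r : (H →* ℂˣ) → ℝ := fun l => if l = 1 then (γ φ : ℝ) else 0
    have hr : ∀ l, (m φ l : ℝ) = r l + (m φ (lam z) : ℝ) := by
      intro l
      rcases eq_or_ne l 1 with rfl | hl
      · simp only [r, if_pos]
        rw [← hm0 φ]; push_cast; ring
      · obtain ⟨j, n, rfl⟩ := hlamcov l hl
        have h1 := hmorb φ j n
        rw [if_neg (hφ j), if_neg (hφ z), sub_self, mul_zero, sub_eq_zero] at h1
        simp only [r, if_neg hl, h1, zero_add]
    refine le_trans (mul_le_mul_of_nonneg_left ?_ (Nat.cast_nonneg _)) (hproj φ r _ hr)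
    simp only [r, ite_pow, zero_pow (two_ne_zero : (2 : ℕ) ≠ 0), Finset.sum_ite_eq',
      Finset.mem_univ, if_true]
    have h1 : (1 : ℝ) ≤ (γ φ : ℝ) ^ 2 := by
      have : (1 : ℤ) ≤ γ φ ^ 2 := by
        rw [← sq_abs]; nlinarith [Int.one_le_abs hne]
      exact_mod_cast this
    have ha' : (1 : ℝ) ≤ (Nat.card (H →* ℂˣ) : ℝ) := by exact_mod_cast ha.le
    nlinarith

end Cfsg.Agent.Lib.CNTheorem
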