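import Cfsg.Agent.Lib.CNTheorem.Structure
import Cfsg.Agent.Lib.Chars.Ops
import Cfsg.Agent.Lib.Chars.Completeness
import Cfsg.Agent.Lib.Chars.Induced

/-!
Linear characters of a TI block, their orbits under the normaliser, and the inner products of the
functions induced from their differences.
-/

set_option autoImplicit false
set_option linter.style.haveILetI false

namespace Cfsg.Agent.Lib.CNTheorem

open Subgroup
open Cfsg.Agent.Lib
open scoped ComplexConjugate commutatorElement

universe u

variable {G : Type u} [Group G]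

/-- A linear character as a function. -/
def linFun {K : Type u} [Group K] (l : K →* ℂˣ) : K → ℂ := fun x => (l x : ℂ)

variable (H : Subgroup G)

/-- The action of the normaliser on linear characters. -/
noncomputable def linConj (n : normalizer (H : Set G)) (l : H →* ℂˣ) : H →* ℂˣ :=
  l.comp (normalizerMonoidHom H n⁻¹).toMonoidHom

theorem linConj_apply (n : normalizer (H : Set G)) (l : H →* ℂˣ) (x : H) :
    linConj H n l x = l (normalizerMonoidHom H n⁻¹ x) := rfl

theorem normalizerMonoidHom_coe (n : normalizer (H : Set G)) (x : H) :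
    ((normalizerMonoidHom H n x : H) : G) = (n : G) * x * (n : G)⁻¹ := rfl

theorem linConj_one (l : H →* ℂˣ) : linConj H 1 l = l := by
  ext x; simp [linConj_apply]

theorem linConj_mul (m n : normalizer (H : Set G)) (l : H →* ℂˣ) :
    linConj H (m * n) l = linConj H m (linConj H n l) := by
  refine MonoidHom.ext fun x => ?_
  simp only [linConj_apply]
  congr 1
  apply Subtype.ext
  simp [normalizerMonoidHom_coe, mul_assoc]

theorem linConj_one_char (n : normalizer (H : Set G)) : linConj H n 1 = 1 := by
  ext x; simp [linConj_apply]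

theorem linConj_of_mem (n : normalizer (H : Set G)) (hn : (n : G) ∈ H) (l : H →* ℂˣ) :
    linConj H n l = l := by
  refine MonoidHom.ext fun x => ?_
  rw [linConj_apply]
  have h1 : normalizerMonoidHom H n⁻¹ x = ⟨(n : G), hn⟩⁻¹ * x * ⟨(n : G), hn⟩ := by
    apply Subtype.ext
    simp [normalizerMonoidHom_coe]
  rw [h1, map_mul, map_mul, map_inv, mul_right_comm, inv_mul_cancel, one_mul]

variable [Fintype G]

noncomputable instance : Fintype H := Fintype.ofFinite _

omit [Fintype G] in
theorem finite_linChar [Finite G] : Finite (H →* ℂˣ) := by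
  refine Nat.finite_of_card_ne_zero ?_
  rw [Chars.card_monoidHom_units]
  exact Subgroup.index_ne_zero_of_finite

/-- A fixed-point-free element of the normaliser fixes only the trivial linear character. -/
theorem mem_of_linConj_eq (hB : IsCNBlock H) {n : normalizer (H : Set G)} {l : H →* ℂˣ}
    (hl : l ≠ 1) (h : linConj H n l = l) : (n : G) ∈ H := by
  by_contra hn
  refine hl ?_
  have hinj : Function.Injective (fun x : H => normalizerMonoidHom H n⁻¹ x * x⁻¹) := by
    intro x y hxy
    have h0 : (n : G)⁻¹ * x * n * (x : G)⁻¹ = (n : G)⁻¹ * y * n * (y : G)⁻¹ := by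
      simpa [normalizerMonoidHom_coe] using congrArg Subtype.val hxy
    by_contra hne
    have hc : Commute (n : G) ((y⁻¹ * x : H) : G) := by
      rw [Subgroup.coe_mul, Subgroup.coe_inv]
      have h1 : (x : G) * n * (x : G)⁻¹ = (y : G) * n * (y : G)⁻¹ := by
        have := congrArg (fun t => (n : G) * t) h0
        simpa [mul_assoc] using this
      show (n : G) * ((y : G)⁻¹ * x) = ((y : G)⁻¹ * x) * n
      calc (n : G) * ((y : G)⁻¹ * x) = (y : G)⁻¹ * ((y : G) * n * (y : G)⁻¹) * x := by group
        _ = _ := by rw [← h1]; group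
    refine hn (hB.2.2 _ (y⁻¹ * x).2 (fun e => hne ?_) (mem_centralizer_iff_commute.mpr hc))
    have : y⁻¹ * x = 1 := Subtype.ext e
    exact (inv_mul_eq_one.mp this).symm
  refine MonoidHom.ext fun z => ?_
  obtain ⟨x, hx⟩ := (Finite.injective_iff_surjective.mp hinj) z
  rw [← hx, map_mul, ← linConj_apply, h, map_inv, mul_inv_cancel, MonoidHom.one_apply]

theorem classInner_linFun {K : Type u} [Group K] [Fintype K] (l m : K →* ℂˣ)
    [Decidable (l = m)] :
    classInner (linFun l) (linFun m) = if l = m then 1 else 0 := by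
  classical
  have h := Chars.classInner_irr (Chars.linIrr l) (Chars.linIrr m)
  have e : ∀ φ : K →* ℂˣ, ((Chars.linIrr φ : IrrCharacter K) : K → ℂ) = linFun φ := fun _ => rfl
  rw [e, e] at h
  rw [h]
  split_ifs with h1 h2 h2
  · rfl
  · exact absurd (Chars.linIrr_injective h1) h2
  · exact absurd (congrArg Chars.linIrr h2) h1
  · rfl

/-- The induced difference of two linear characters. -/
noncomputable def indDiff (l m : H →* ℂˣ) : G → ℂ := indFun H (linFun l - linFun m)

theorem indDiff_eq (l m : H →* ℂˣ) :
    indDiff H l m = indFun H (linFun l) - indFun H (linFun m) := Chars.indFun_sub H _ _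

theorem indDiff_add (l m r : H →* ℂˣ) :
    indDiff H l m + indDiff H m r = indDiff H l r := by
  simp only [indDiff_eq]; abel

theorem isGeneralizedCharacter_indDiff (l m : H →* ℂˣ) :
    IsGeneralizedCharacter G (indDiff H l m) := by
  rw [indDiff_eq]
  exact Chars.isGeneralizedCharacter_sub
    (Chars.isGeneralizedCharacter_of_isCharacter (Chars.isCharacter_indFun H (Chars.isCharacter_hom l)))
    (Chars.isGeneralizedCharacter_of_isCharacter (Chars.isCharacter_indFun H (Chars.isCharacter_hom m)))

theorem indDiff_apply_one (l m : H →* ℂˣ) : indDiff H l m 1 = 0 := by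
  simp [indDiff, Chars.indFun_one_eq, linFun]

theorem conj_linFun {K : Type u} [Group K] [Finite K] (l : K →* ℂˣ) (x : K) :
    conj (linFun l x) = linFun l⁻¹ x := by
  simp only [linFun, MonoidHom.inv_apply, Units.val_inv_eq_inv_val]
  exact (Complex.inv_eq_conj (Chars.norm_hom_apply l x)).symm

theorem conj_indDiff (l m : H →* ℂˣ) (g : G) :
    conj (indDiff H l m g) = indDiff H l⁻¹ m⁻¹ g := by
  simp only [indDiff, indFun, map_mul, map_inv₀, map_natCast, map_sum]
  congr 1
  refine Finset.sum_congr rfl fun x _ => ?_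
  by_cases hx : x⁻¹ * g * x ∈ H
  · simp only [Chars.extendByZero_of_mem _ hx, Pi.sub_apply, map_sub, conj_linFun]
  · simp only [Chars.extendByZero_of_not_mem _ hx, map_zero]

theorem indFun_linConj (n : normalizer (H : Set G)) (l : H →* ℂˣ) :
    indFun H (linFun (linConj H n l)) = indFun H (linFun l) := by
  funext g
  simp only [indFun]
  congr 1
  refine Fintype.sum_equiv (Equiv.mulRight (n : G)) _ _ fun x => ?_
  have hiff : (x * (n : G))⁻¹ * g * (x * n) ∈ H ↔ x⁻¹ * g * x ∈ H := by
    have h1 := mem_normalizer_iff.mp (inv_mem n.2) (x⁻¹ * g * x)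
    rw [show (x * (n : G))⁻¹ * g * (x * n) = (n : G)⁻¹ * (x⁻¹ * g * x) * (n : G)⁻¹⁻¹ by group]
    exact h1.symm
  show extendByZero H _ (x⁻¹ * g * x) = extendByZero H _ ((x * (n : G))⁻¹ * g * (x * n))
  by_cases hx : x⁻¹ * g * x ∈ H
  · rw [Chars.extendByZero_of_mem _ hx, Chars.extendByZero_of_mem _ (hiff.mpr hx)]
    simp only [linFun, linConj_apply]
    congr 2
    apply Subtype.ext
    simp [normalizerMonoidHom_coe, mul_assoc]
  · rw [Chars.extendByZero_of_not_mem _ hx, Chars.extendByZero_of_not_mem _ (mt hiff.mp hx)]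

theorem indDiff_linConj (n k : normalizer (H : Set G)) (l m : H →* ℂˣ) :
    indDiff H (linConj H n l) (linConj H k m) = indDiff H l m := by
  simp only [indDiff_eq, indFun_linConj]

/-- On a block, an induced function is a sum of conjugates. -/
theorem indFun_apply_coe (hB : IsCNBlock H) [Fintype (normalizer (H : Set G))] (f : H → ℂ)
    (hf : f 1 = 0) (y : H) :
    indFun H f (y : G) = (Nat.card H : ℂ)⁻¹ *
      ∑ n : normalizer (H : Set G), f (normalizerMonoidHom H n⁻¹ y) := by
  rcases eq_or_ne y 1 with rfl | hy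
  · simp [Chars.indFun_one_eq, hf]
  simp only [indFun]
  congr 1
  classical
  rw [← Finset.sum_subset (Finset.subset_univ (Finset.univ.filter (fun x : G => x ∈ normalizer (H : Set G))))]
  · rw [Finset.sum_subtype _ (p := fun x => x ∈ normalizer (H : Set G)) (by simp)]
    refine Finset.sum_congr rfl fun n _ => ?_
    rw [← Chars.extendByZero_coe H f]
    congr 1
    simp [normalizerMonoidHom_coe, mul_assoc]
  · intro x _ hx
    simp only [Finset.mem_filter, Finset.mem_univ, true_and] at hx
    by_cases h : x⁻¹ * (y : G) * x ∈ H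
    · exfalso
      refine hx ?_
      have h1 := mem_normalizer_of_meet hB y.2 (fun e => hy (Subtype.ext e))
        (g := x⁻¹) (by rwa [inv_inv])
      simpa using inv_mem h1
    · exact Chars.extendByZero_of_not_mem _ h

theorem indFun_apply_coe_of_disjoint (H' : Subgroup G)
    (hdis : ∀ x g : G, x ∈ H' → x ≠ 1 → g * x * g⁻¹ ∉ H) (f : H → ℂ) (hf : f 1 = 0) (y : H') :
    indFun H f (y : G) = 0 := by
  rcases eq_or_ne (y : G) 1 with hy | hy
  · rw [hy, Chars.indFun_one_eq, hf, mul_zero]
  simp only [indFun]
  rw [Finset.sum_eq_zero, mul_zero]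
  intro x _
  refine Chars.extendByZero_of_not_mem _ ?_
  simpa using hdis y x⁻¹ y.2 hy

theorem classInner_indDiff_disjoint (H' : Subgroup G)
    (hdis : ∀ x g : G, x ∈ H' → x ≠ 1 → g * x * g⁻¹ ∉ H) (l m : H →* ℂˣ) (l' m' : H' →* ℂˣ) :
    classInner (indDiff H l m) (indDiff H' l' m') = 0 := by
  rw [← Chars.conj_classInner]
  show conj (classInner (indFun H' (linFun l' - linFun m')) (indDiff H l m)) = 0
  rw [Chars.classInner_indFun_left H' _ (indDiff H l m) (Chars.isClassFunction_indFun _ _)]
  have h0 : (fun y : H' => indDiff H l m y) = 0 :=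
    funext fun y => indFun_apply_coe_of_disjoint H H' hdis _ (by simp [linFun]) y
  rw [h0, Chars.classInner_zero_right, map_zero]

/-- The pairing induced on linear characters. -/
noncomputable def orbitPair (l m : H →* ℂˣ) : ℂ :=
  (Nat.card H : ℂ)⁻¹ * (Nat.card {n : normalizer (H : Set G) // l = linConj H n m} : ℂ)

theorem orbitPair_eq_one (hB : IsCNBlock H) {l m : H →* ℂˣ} (hm : m ≠ 1)
    {k : normalizer (H : Set G)} (h : l = linConj H k m) : orbitPair H l m = 1 := by
  have e : {n : normalizer (H : Set G) // l = linConj H n m} ≃ H :=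
    { toFun := fun n => ⟨((k⁻¹ * n.1 : normalizer (H : Set G)) : G),
        mem_of_linConj_eq H hB hm (by
          rw [linConj_mul, ← n.2, h, ← linConj_mul, inv_mul_cancel, linConj_one])⟩
      invFun := fun x => ⟨k * ⟨x, le_normalizer x.2⟩, by
        rw [linConj_mul, linConj_of_mem H ⟨x, le_normalizer x.2⟩ x.2]; exact h⟩
      left_inv := fun n => by ext; simp
      right_inv := fun x => by ext; simp }
  rw [orbitPair, Nat.card_congr e, inv_mul_cancel₀ (Nat.cast_ne_zero.mpr Nat.card_pos.ne')]

theorem orbitPair_eq_zero {l m : H →* ℂˣ} (h : ∀ n, l ≠ linConj H n m) : orbitPair H l m = 0 := by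
  haveI : IsEmpty {n : normalizer (H : Set G) // l = linConj H n m} := ⟨fun n => h n n.2⟩
  simp [orbitPair]

theorem orbitPair_one_one :
    orbitPair H 1 1 = (H.relIndex (normalizer (H : Set G)) : ℂ) := by
  have e : Nat.card {n : normalizer (H : Set G) // (1 : H →* ℂˣ) = linConj H n 1} =
      Nat.card (normalizer (H : Set G)) :=
    Nat.card_congr (Equiv.subtypeUnivEquiv fun n => (linConj_one_char H n).symm)
  rw [orbitPair, e, ← PSolvable.card_mul_relIndex (le_normalizer (H := H)), Nat.cast_mul,
    inv_mul_cancel_left₀ (Nat.cast_ne_zero.mpr Nat.card_pos.ne')]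

theorem orbitPair_one_left {m : H →* ℂˣ} (hm : m ≠ 1) : orbitPair H 1 m = 0 := by
  refine orbitPair_eq_zero H fun n h => hm ?_
  have := congrArg (linConj H n⁻¹) h
  rwa [linConj_one_char, ← linConj_mul, inv_mul_cancel, linConj_one, eq_comm] at this

theorem orbitPair_one_right {l : H →* ℂˣ} (hl : l ≠ 1) : orbitPair H l 1 = 0 :=
  orbitPair_eq_zero H fun n h => hl (h.trans (linConj_one_char H n))

theorem classInner_indDiff (hB : IsCNBlock H) (l m ν ρ : H →* ℂˣ) :
    classInner (indDiff H l m) (indDiff H ν ρ) =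
      orbitPair H l ν - orbitPair H l ρ - orbitPair H m ν + orbitPair H m ρ := by
  classical
  letI : Fintype (normalizer (H : Set G)) := Fintype.ofFinite _
  rw [show indDiff H l m = indFun H (linFun l - linFun m) from rfl,
    Chars.classInner_indFun_left _ _ _
      (Chars.isClassFunction_of_isGeneralizedCharacter (isGeneralizedCharacter_indDiff H ν ρ))]
  have h1 : (fun y : H => indDiff H ν ρ y) = (Nat.card H : ℂ)⁻¹ •
      ∑ n : normalizer (H : Set G), (linFun (linConj H n ν) - linFun (linConj H n ρ)) := by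
    funext y
    rw [indDiff, indFun_apply_coe H hB _ (by simp [linFun])]
    simp only [Pi.smul_apply, Finset.sum_apply, smul_eq_mul]
    rfl
  rw [h1, Chars.classInner_smul_right, Chars.classInner_sum_right, map_inv₀, map_natCast]
  simp only [Chars.classInner_sub_left, Chars.classInner_sub_right, classInner_linFun,
    Finset.sum_sub_distrib, Finset.sum_boole, orbitPair, Nat.card_eq_fintype_card,
    Fintype.card_subtype]
  ring

/-- Orbit representatives of the nontrivial linear characters. -/
theorem exists_linChar_reps (hB : IsCNBlock H) :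
    ∃ (s : ℕ) (lam : Fin s → (H →* ℂˣ)), (∀ j, lam j ≠ 1) ∧
      (∀ j k n, lam j = linConj H n (lam k) → j = k) ∧
      (∀ l, l ≠ 1 → ∃ j n, l = linConj H n (lam j)) ∧
      Nat.card (H →* ℂˣ) = s * H.relIndex (normalizer (H : Set G)) + 1 := by
  classical
  haveI := finite_linChar H
  let L := {l : H →* ℂˣ // l ≠ 1}
  have hne : ∀ n l, l ≠ 1 → linConj H n l ≠ 1 := by
    intro n l hl h
    refine hl ?_
    have := congrArg (linConj H n⁻¹) h
    rwa [← linConj_mul, inv_mul_cancel, linConj_one, linConj_one_char] at this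
  let r : Setoid L :=
    { r := fun A B => ∃ n, B.1 = linConj H n A.1
      iseqv :=
        { refl := fun A => ⟨1, (linConj_one H A.1).symm⟩
          symm := fun {A B} ⟨n, hn⟩ => ⟨n⁻¹, by
            rw [hn, ← linConj_mul, inv_mul_cancel, linConj_one]⟩
          trans := fun {A B C} ⟨n, hn⟩ ⟨k, hk⟩ => ⟨k * n, by rw [hk, hn, linConj_mul]⟩ } }
  let e := (Finite.equivFin (Quotient r)).symm
  let lam : Fin (Nat.card (Quotient r)) → (H →* ℂˣ) := fun j => (e j).out.1
  have hinj : ∀ j k n, lam j = linConj H n (lam k) → j = k := by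
    intro j k n h
    have h1 : Quotient.mk r (e k).out = Quotient.mk r (e j).out := Quotient.sound ⟨n, h⟩
    rw [Quotient.out_eq, Quotient.out_eq] at h1
    exact (e.injective h1).symm
  have hcov : ∀ l, l ≠ 1 → ∃ j n, l = linConj H n (lam j) := by
    intro l hl
    refine ⟨e.symm (Quotient.mk r ⟨l, hl⟩), ?_⟩
    have h1 : r.r (e (e.symm (Quotient.mk r ⟨l, hl⟩))).out ⟨l, hl⟩ := by
      refine Quotient.exact ?_
      rw [Quotient.out_eq, Equiv.apply_symm_apply]
    exact h1
  refine ⟨_, lam, fun j => (e j).out.2, hinj, hcov, ?_⟩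
  set N := normalizer (H : Set G) with hN
  let f : Option (Fin (Nat.card (Quotient r)) × (N ⧸ H.subgroupOf N)) → (H →* ℂˣ) :=
    fun o => o.elim 1 fun p => linConj H p.2.out (lam p.1)
  have hf : Function.Bijective f := by
    constructor
    · rintro (_ | ⟨j, a⟩) (_ | ⟨k, b⟩) h
      · rfl
      · exact absurd h.symm (hne _ _ (e k).out.2)
      · exact absurd h (hne _ _ (e j).out.2)
      · have h1 : lam j = linConj H (a.out⁻¹ * b.out) (lam k) := by
          have := congrArg (linConj H a.out⁻¹) h
          simp only [f, Option.elim_some, ← linConj_mul, inv_mul_cancel, linConj_one] at this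
          exact this
        obtain rfl := hinj _ _ _ h1
        have h2 : a.out⁻¹ * b.out ∈ H.subgroupOf N :=
          mem_subgroupOf.mpr (mem_of_linConj_eq H hB (e j).out.2 h1.symm)
        rw [← QuotientGroup.eq, QuotientGroup.out_eq', QuotientGroup.out_eq'] at h2
        rw [h2]
    · intro l
      rcases eq_or_ne l 1 with rfl | hl
      · exact ⟨none, rfl⟩
      · obtain ⟨j, n, rfl⟩ := hcov l hl
        refine ⟨some (j, (n : N ⧸ H.subgroupOf N)), ?_⟩
        show linConj H (n : N ⧸ H.subgroupOf N).out (lam j) = _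
        obtain ⟨m, hm⟩ := QuotientGroup.mk_out_eq_mul (H.subgroupOf N) n
        rw [hm, linConj_mul, linConj_of_mem H _ (mem_subgroupOf.mp m.2)]
  rw [← Nat.card_congr (Equiv.ofBijective f hf), Finite.card_option, Nat.card_prod,
    Nat.card_fin, ← Subgroup.index_eq_card]
  rfl

end Cfsg.Agent.Lib.CNTheorem
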