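import Cfsg.Agent.Lib.CNTheorem.ThreeStep
import Cfsg.Agent.Lib.Transfer.Fusion

/-!
Local analysis of a CN-group of odd order all of whose `p`-local subgroups are solvable, and which
is perfect without nontrivial normal `p`-subgroups: the Sylow subgroups are TI.
-/

set_option autoImplicit false
set_option linter.style.haveILetI false

namespace Cfsg.Agent.Lib.CNTheorem

open Subgroup
open Cfsg.Agent.Lib
open scoped commutatorElement

universe u

variable {G : Type u} [Group G] {p : ℕ}

/-- `S` is a maximal `p`-subgroup of `X`. -/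
def IsMaxPIn (p : ℕ) (X S : Subgroup G) : Prop :=
  S ≤ X ∧ IsPGroup p S ∧ ∀ T : Subgroup G, T ≤ X → IsPGroup p T → S ≤ T → T = S

theorem exists_isMaxPIn [Finite G] {X T : Subgroup G} (hTX : T ≤ X) (hT : IsPGroup p T) :
    ∃ S, IsMaxPIn p X S ∧ T ≤ S := by
  obtain ⟨S, hTS, hS⟩ := (Set.toFinite {S : Subgroup G | S ≤ X ∧ IsPGroup p S}).exists_le_maximal
    (show T ∈ {S : Subgroup G | S ≤ X ∧ IsPGroup p S} from ⟨hTX, hT⟩)
  exact ⟨S, ⟨hS.1.1, hS.1.2, fun U h1 h2 h3 => le_antisymm (hS.2 ⟨h1, h2⟩ h3) h3⟩, hTS⟩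

theorem exists_gt_le_normalizer [Finite G] [Fact p.Prime] {S T : Subgroup G}
    (hT : IsPGroup p T) (h : S < T) :
    ∃ S', S < S' ∧ S' ≤ T ∧ S' ≤ normalizer (S : Set G) := by
  refine ⟨T ⊓ normalizer (S : Set G), ?_, inf_le_left, inf_le_right⟩
  refine lt_of_le_of_ne (le_inf h.le le_normalizer) fun e => ?_
  haveI := hT.isNilpotent
  have h1 : S.subgroupOf T < ⊤ := lt_top_iff_ne_top.mpr fun e' =>
    h.not_ge (subgroupOf_eq_top.mp e')
  obtain ⟨-, x, hx, hxS⟩ := SetLike.lt_iff_le_and_exists.mp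
    (Group.normalizerCondition_of_isNilpotent _ h1)
  refine hxS (mem_subgroupOf.mpr (e ▸ mem_inf.mpr ⟨x.2, mem_normalizer_iff.mpr fun y => ?_⟩))
  constructor
  · intro hy
    exact (mem_normalizer_iff.mp hx ⟨y, h.le hy⟩).mp hy
  · intro hy
    have hyT : y ∈ T := by
      have := T.mul_mem (T.mul_mem (T.inv_mem x.2) (h.le hy)) x.2
      simpa [mul_assoc] using this
    exact (mem_normalizer_iff.mp hx ⟨y, hyT⟩).mpr hy

theorem exists_pow_eq_one_of_forall [Finite G] [Fact p.Prime] {C : Subgroup G}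
    (h : ∀ z ∈ C, (orderOf z).Coprime p → z = 1) : IsPGroup p C := by
  intro z
  have hp : p.Prime := Fact.out
  set n := orderOf (z : G) with hn
  refine ⟨n.factorization p, Subtype.ext ?_⟩
  rw [SubmonoidClass.coe_pow]
  refine h _ (C.pow_mem z.2 _) ?_
  rw [orderOf_pow, ← hn, Nat.gcd_eq_right (Nat.ordProj_dvd n p)]
  exact (Nat.coprime_ordCompl hp (orderOf_pos (z : G)).ne').symm

variable [Finite G] [Fact p.Prime]

/-- The dichotomy for the normaliser of a nontrivial `p`-subgroup. -/
theorem normalizer_dichotomy (hCN : Cfsg.IsCNGroup G) (hodd : Odd (Nat.card G))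
    {Q : Subgroup G} (hQ : IsPGroup p Q) (hQ1 : Q ≠ ⊥)
    (hsolv : Group.IsSolvable (normalizer (Q : Set G))) {S : Subgroup G}
    (hS : IsMaxPIn p (normalizer (Q : Set G)) S) :
    normalizer (Q : Set G) ≤ normalizer (S : Set G) ∨
      (¬ S ≤ ⁅normalizer (Q : Set G), normalizer (Q : Set G)⁆ ∧
        normalizer (Q : Set G) ≤ normalizer (Cfsg.thompsonSubgroupOf p S : Set G)) := by
  set X := normalizer (Q : Set G) with hX
  have hQS : Q ≤ S := by
    have h1 : IsPGroup p (Q ⊔ S : Subgroup G) := hQ.to_sup_of_normal_left' hS.2.1 hS.1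
    exact (le_sup_left.trans (hS.2.2 _ (sup_le le_normalizer hS.1) h1 le_sup_right).le)
  by_cases hk : ∃ k ∈ centralizer (Q : Set G), (orderOf k).Coprime p ∧ k ≠ 1
  · left
    obtain ⟨k, hkC, hkp, hk1⟩ := hk
    haveI := hS.2.1.isNilpotent
    haveI : (Q.subgroupOf S).Normal := by
      rw [normal_subgroupOf_iff_le_normalizer hQS]
      exact hS.1
    obtain ⟨c, hc, hc1⟩ := (bot_or_exists_ne_one _).resolve_left
      (Nilp.inf_center_ne_bot_of_normal (N := Q.subgroupOf S) fun e => hQ1 (eq_bot_iff.mpr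
        fun x hx => by
          have h1 : (⟨x, hQS hx⟩ : S) ∈ Q.subgroupOf S := hx
          rw [e, mem_bot] at h1
          exact mem_bot.mpr (congrArg Subtype.val h1)))
    have hc0 : (c : G) ≠ 1 := fun e => hc1 (Subtype.ext e)
    have key : ∀ k' ∈ centralizer (Q : Set G), (orderOf k').Coprime p → ∀ s ∈ S, Commute s k' :=
      fun k' hk'C hk'p s hs => commute_of_commute_of_coprime hCN hc0
        (congrArg Subtype.val (mem_center_iff.mp hc.2 ⟨s, hs⟩))
        (mem_centralizer_iff.mp hk'C c hc.1).symm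
        (coprime_orderOf_of_mem_pGroup hS.2.1 hs hk'p).symm
    have hmem : ∀ x ∈ X, ∀ s ∈ S, Commute (x * s * x⁻¹) k := by
      intro x hx s hs
      have hk' : x⁻¹ * k * x ∈ centralizer (Q : Set G) := mem_centralizer_iff.mpr fun y hy => by
        have hy' : x * y * x⁻¹ ∈ Q := (mem_normalizer_iff.mp hx y).mp hy
        calc y * (x⁻¹ * k * x) = x⁻¹ * ((x * y * x⁻¹) * k) * x := by group
          _ = x⁻¹ * (k * (x * y * x⁻¹)) * x := by rw [mem_centralizer_iff.mp hkC _ hy']
          _ = x⁻¹ * k * x * y := by group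
      have hord : orderOf (x⁻¹ * k * x) = orderOf k := by
        simpa [MulAut.conj_apply] using (MulAut.conj x⁻¹ : G ≃* G).orderOf_eq k
      have h2 := key _ hk' (hord.symm ▸ hkp) s hs
      show x * s * x⁻¹ * k = k * (x * s * x⁻¹)
      calc x * s * x⁻¹ * k = x * (s * (x⁻¹ * k * x)) * x⁻¹ := by group
        _ = x * ((x⁻¹ * k * x) * s) * x⁻¹ := by rw [h2.eq]
        _ = k * (x * s * x⁻¹) := by group
    set N := centralizer ({k} : Set G) ⊓ X with hN
    haveI : Group.IsNilpotent N := isNilpotent_of_le inf_le_left (hCN k hk1)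
    have hSN : S ≤ N := le_inf
      (fun s hs => mem_centralizer_iff_commute.mpr (key k hkC hkp s hs)) hS.1
    obtain ⟨P₀, hP₀⟩ := (hS.2.1.comap_subtype (K := N)).exists_le_sylow
    haveI := P₀.unique_of_normal inferInstance
    have hmax := hS.2.2 ((P₀ : Subgroup N).map N.subtype)
      ((map_subtype_le _).trans inf_le_right) (P₀.2.map _)
      (fun s hs => ⟨⟨s, hSN hs⟩, hP₀ hs, rfl⟩)
    intro x hx
    have hle : ∀ y ∈ X, ∀ s ∈ S, y * s * y⁻¹ ∈ S := by
      intro y hy s hs
      have hyN : y * s * y⁻¹ ∈ N := ⟨mem_centralizer_iff_commute.mpr (hmem y hy s hs),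
        X.mul_mem (X.mul_mem hy (hS.1 hs)) (X.inv_mem hy)⟩
      have hp2 : IsPGroup p ((S.map (MulAut.conj y).toMonoidHom).subgroupOf N) :=
        (hS.2.1.map _).comap_subtype
      obtain ⟨P₁, hP₁⟩ := hp2.exists_le_sylow
      rw [Subsingleton.elim P₁ P₀] at hP₁
      rw [← hmax]
      exact ⟨⟨_, hyN⟩, hP₁ (mem_subgroupOf.mpr ⟨s, hs, rfl⟩), rfl⟩
    refine mem_normalizer_iff.mpr fun s => ⟨hle x hx s, fun h => ?_⟩
    simpa [mul_assoc] using hle x⁻¹ (X.inv_mem hx) _ h
  · push Not at hk
    have hCp : IsPGroup p (centralizer (Q : Set G)) := exists_pow_eq_one_of_forall hk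
    haveI := hsolv
    let S₀ : Sylow p X := ⟨S.subgroupOf X, hS.2.1.comap_subtype, fun {T} hT hST => by
      have h1 := hS.2.2 (T.map X.subtype) (map_subtype_le T) (hT.map _)
        (fun s hs => ⟨⟨s, hS.1 hs⟩, hST hs, rfl⟩)
      rw [← h1]
      exact (comap_map_eq_self_of_injective X.subtype_injective T).symm⟩
    have hSmap : (S₀ : Subgroup X).map X.subtype = S := by
      show (S.subgroupOf X).map X.subtype = S
      rw [subgroupOf_map_subtype, inf_eq_left.mpr hS.1]
    by_cases hSR : (S₀ : Subgroup X) = Cfsg.pCore p X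
    · left
      rw [← normal_subgroupOf_iff_le_normalizer hS.1]
      show (S₀ : Subgroup X).Normal
      rw [hSR]; infer_instance
    · right
      have hC : centralizer (Cfsg.pCore p X : Set X) ≤ Cfsg.pCore p X := by
        haveI : (Q.subgroupOf X).Normal := normal_in_normalizer
        refine PSolvable.le_pCore ?_
        have hQR : Q.subgroupOf X ≤ Cfsg.pCore p X := PSolvable.le_pCore hQ.comap_subtype
        refine (hCp.comap_subtype (K := X)).to_le fun x hx => mem_centralizer_iff.mpr fun y hy => ?_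
        exact congrArg Subtype.val
          (mem_centralizer_iff.mp hx ⟨y, le_normalizer hy⟩ (hQR hy))
      obtain ⟨h1, h2⟩ := three_step (isCN_subgroup hCN X)
        (hodd.of_dvd_nat (card_subgroup_dvd_card X)) hC S₀ hSR
      refine ⟨fun h => h1 fun x hx => ?_, ?_⟩
      · have h3 : ((x : X) : G) ∈ ⁅X, X⁆ := h hx
        rw [← map_subtype_commutator] at h3
        obtain ⟨y, hy, hyx⟩ := h3
        exact X.subtype_injective hyx ▸ hy
      · have h3 : Cfsg.thompsonSubgroupOf p S =
            (Cfsg.thompsonSubgroupOf p (S₀ : Subgroup X)).map X.subtype := by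
          rw [← Thompson.thompsonSubgroupOf_map X.subtype_injective, hSmap]
        rw [h3]
        haveI := h2
        rw [← normal_subgroupOf_iff_le_normalizer (map_subtype_le _)]
        rw [subgroupOf, comap_map_eq_self_of_injective X.subtype_injective]
        exact h2

theorem exists_conj_le (P : Sylow p G) {M S : Subgroup G} (hPM : (P : Subgroup G) ≤ M)
    (hSM : S ≤ M) (hS : IsPGroup p S) : ∃ m ∈ M, S.map (MulAut.conj m).toMonoidHom ≤ P := by
  obtain ⟨T, hT⟩ := (hS.comap_subtype (K := M)).exists_le_sylow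
  obtain ⟨m, hm⟩ := MulAction.exists_smul_eq M T (P.subtype hPM)
  refine ⟨m, m.2, ?_⟩
  rintro _ ⟨s, hs, rfl⟩
  have h1 : m * ⟨s, hSM hs⟩ * m⁻¹ ∈ ((m • T : Sylow p M) : Subgroup M) :=
    Subgroup.smul_mem_pointwise_smul _ (MulAut.conj m) _ (hT hs)
  rw [hm] at h1
  exact h1

variable (hCN : Cfsg.IsCNGroup G) (hodd : Odd (Nat.card G))
  (hsolv : ∀ Q : Subgroup G, IsPGroup p Q → Q ≠ ⊥ → Group.IsSolvable (normalizer (Q : Set G)))

include hCN hodd hsolv in
theorem normalizer_le_normalizer_thompson (P : Sylow p G) (Q : Subgroup G) (hQ : IsPGroup p Q)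
    (hQ1 : Q ≠ ⊥) (hQM : Q ≤ normalizer (Cfsg.thompsonSubgroupOf p (P : Subgroup G) : Set G)) :
    normalizer (Q : Set G) ≤
      normalizer (Cfsg.thompsonSubgroupOf p (P : Subgroup G) : Set G) := by
  set M := normalizer (Cfsg.thompsonSubgroupOf p (P : Subgroup G) : Set G) with hM
  have hPM : (P : Subgroup G) ≤ M := le_normalizer.trans (Thompson.normalizer_le p _)
  obtain ⟨S, hS, -⟩ := exists_isMaxPIn (p := p) (X := normalizer (Q : Set G) ⊓ M) (T := Q)
    (le_inf le_normalizer hQM) hQ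
  induction hn : Nat.card P - Nat.card S using Nat.strong_induction_on generalizing Q S with
  | _ n ih =>
    have hQS : Q ≤ S := by
      have h1 : IsPGroup p (Q ⊔ S : Subgroup G) :=
        hQ.to_sup_of_normal_left' hS.2.1 (hS.1.trans inf_le_left)
      exact le_sup_left.trans
        (hS.2.2 _ (sup_le (le_inf le_normalizer hQM) hS.1) h1 le_sup_right).le
    have hS1 : S ≠ ⊥ := fun e => hQ1 (eq_bot_iff.mpr (hQS.trans e.le))
    have hJS : Cfsg.thompsonSubgroupOf p S ≠ ⊥ := by
      refine Thompson.thompsonSubgroupOf_ne_bot ?_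
      obtain ⟨k, hk⟩ := hS.2.1.exists_card_eq
      rw [hk]
      exact dvd_pow_self p fun h0 => hS1 (card_eq_one.mp (by rw [hk, h0, pow_zero]))
    have hJM : Cfsg.thompsonSubgroupOf p S ≤ M :=
      (Thompson.thompsonSubgroupOf_le p S).trans (hS.1.trans inf_le_right)
    have hkey : normalizer (S : Set G) ≤ M ∧
        normalizer (Cfsg.thompsonSubgroupOf p S : Set G) ≤ M := by
      obtain ⟨m, hmM, hmS⟩ := exists_conj_le P hPM (hS.1.trans inf_le_right) hS.2.1
      by_cases heq : S.map (MulAut.conj m).toMonoidHom = P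
      · have hJ : Cfsg.thompsonSubgroupOf p S = Cfsg.thompsonSubgroupOf p (P : Subgroup G) := by
          have h1 : (Cfsg.thompsonSubgroupOf p S).map (MulAut.conj m).toMonoidHom =
              Cfsg.thompsonSubgroupOf p (P : Subgroup G) := by
            rw [← Thompson.thompsonSubgroupOf_map (MulAut.conj m).injective, heq]
          ext x
          have h3 := mem_normalizer_iff.mp hmM x
          rw [h3, ← h1]
          exact (mem_map_iff_mem (f := (MulAut.conj m).toMonoidHom)
            (MulAut.conj m).injective).symm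
        refine ⟨(Thompson.normalizer_le p S).trans ?_, ?_⟩ <;> rw [hJ]
      · -- `S` is properly contained in a `p`-subgroup of `M`
        set P' := (P : Subgroup G).map (MulAut.conj m⁻¹).toMonoidHom with hP'
        have hSP' : S < P' := by
          refine lt_of_le_of_ne (fun s hs => ⟨_, hmS (mem_map_of_mem _ hs), by simp [mul_assoc]⟩)
            fun e => heq ?_
          rw [e, hP', Subgroup.map_map]
          convert Subgroup.map_id _
          ext y; simp [mul_assoc]
        obtain ⟨S', hSS', hS'P, hS'N⟩ := exists_gt_le_normalizer (p := p) (P.2.map _) hSP'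
        have hS'M : S' ≤ M := by
          refine hS'P.trans ?_
          rintro _ ⟨y, hy, rfl⟩
          exact M.mul_mem (M.mul_mem (M.inv_mem hmM) (hPM hy)) (M.inv_mem (M.inv_mem hmM))
        have step : ∀ Q' : Subgroup G, IsPGroup p Q' → Q' ≠ ⊥ → Q' ≤ M →
            S' ≤ normalizer (Q' : Set G) → normalizer (Q' : Set G) ≤ M := by
          intro Q' hQ' hQ'1 hQ'M hle
          obtain ⟨T, hT, hS'T⟩ := exists_isMaxPIn (p := p) (X := normalizer (Q' : Set G) ⊓ M)
            (le_inf hle hS'M) ((P.2.map _).to_le hS'P)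
          have hlt : Nat.card S < Nat.card T := (Set.Finite.card_lt_card (Set.toFinite _)
            hSS').trans_le (card_le_of_le hS'T)
          have hTP : Nat.card T ≤ Nat.card P := by
            obtain ⟨P₂, hP₂⟩ := hT.2.1.exists_le_sylow
            rw [P.card_eq_multiplicity, ← P₂.card_eq_multiplicity]
            exact card_le_of_le hP₂
          exact ih _ (by omega) Q' hQ' hQ'1 hQ'M T hT rfl
        exact ⟨step S hS.2.1 hS1 (hS.1.trans inf_le_right) hS'N,
          step _ (hS.2.1.to_le (Thompson.thompsonSubgroupOf_le p S)) hJS hJM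
            (hS'N.trans (Thompson.normalizer_le p S))⟩
    have hmax : IsMaxPIn p (normalizer (Q : Set G)) S := by
      refine ⟨hS.1.trans inf_le_left, hS.2.1, fun T hT1 hT2 hT3 => ?_⟩
      by_contra hne
      obtain ⟨S', hSS', hS'T, hS'N⟩ := exists_gt_le_normalizer (p := p) hT2
        (lt_of_le_of_ne hT3 (Ne.symm hne))
      exact hSS'.ne (hS.2.2 S' (le_inf (hS'T.trans hT1) (hS'N.trans hkey.1))
        (hT2.to_le hS'T) hSS'.le).symm
    rcases normalizer_dichotomy hCN hodd hQ hQ1 (hsolv Q hQ hQ1) hmax with h | ⟨-, h⟩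
    · exact h.trans hkey.1
    · exact h.trans hkey.2

include hCN hodd hsolv in
theorem mem_normalizer_thompson_of_conj_mem (P : Sylow p G) {x g : G} (hx : x ∈ P) (hx1 : x ≠ 1)
    (hg : g * x * g⁻¹ ∈ normalizer (Cfsg.thompsonSubgroupOf p (P : Subgroup G) : Set G)) :
    g ∈ normalizer (Cfsg.thompsonSubgroupOf p (P : Subgroup G) : Set G) := by
  set M := normalizer (Cfsg.thompsonSubgroupOf p (P : Subgroup G) : Set G) with hM
  have hPM : (P : Subgroup G) ≤ M := le_normalizer.trans (Thompson.normalizer_le p _)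
  set M' := M.comap (MulAut.conj g).toMonoidHom with hM'
  have hxT : zpowers x ≤ M ⊓ M' := zpowers_le.mpr ⟨hPM hx, hg⟩
  obtain ⟨T, hT, hxle⟩ := exists_isMaxPIn (p := p) hxT (P.2.to_le (zpowers_le.mpr hx))
  have hT1 : T ≠ ⊥ := fun e => hx1 (mem_bot.mp (e ▸ hxle (mem_zpowers x)))
  have hN1 : normalizer (T : Set G) ≤ M :=
    normalizer_le_normalizer_thompson hCN hodd hsolv P T hT.2.1 hT1 (hT.1.trans inf_le_left)
  have hN2 : normalizer (T : Set G) ≤ M' := by
    have h := normalizer_le_normalizer_thompson hCN hodd hsolv P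
      (T.map (MulAut.conj g).toMonoidHom) (hT.2.1.map _)
      (fun e => hT1 ((map_eq_bot_iff_of_injective _ (MulAut.conj g).injective).mp e))
      (map_le_iff_le_comap.mpr (hT.1.trans inf_le_right))
    intro y hy
    refine h ?_
    have hy' : y ∈ (normalizer (T : Set G)) := hy
    rw [← map_equiv_normalizer_eq]
    exact mem_map_of_mem _ hy'
  obtain ⟨P₁, hP₁⟩ := hT.2.1.exists_le_sylow
  have hTP₁ : T = P₁ := by
    by_contra hne
    obtain ⟨S', hSS', hS'P, hS'N⟩ := exists_gt_le_normalizer (p := p) P₁.2 (lt_of_le_of_ne hP₁ hne)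
    exact hSS'.ne (hT.2.2 S' (hS'N.trans (le_inf hN1 hN2)) (P₁.2.to_le hS'P) hSS'.le).symm
  obtain ⟨m, hmM, hm⟩ := exists_conj_le P hPM (hT.1.trans inf_le_left) hT.2.1
  obtain ⟨m', hm'M, hm'⟩ := exists_conj_le P hPM (S := T.map (MulAut.conj g).toMonoidHom)
    (map_le_iff_le_comap.mpr (hT.1.trans inf_le_right)) (hT.2.1.map _)
  have hfull : ∀ a : G, T.map (MulAut.conj a).toMonoidHom ≤ P →
      T.map (MulAut.conj a).toMonoidHom = P := fun a ha => by
    refine eq_of_le_of_card_ge ha (le_of_eq ?_)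
    rw [card_map_of_injective (f := (MulAut.conj a).toMonoidHom) (MulAut.conj a).injective,
      congrArg (fun K : Subgroup G => Nat.card K) hTP₁, P₁.card_eq_multiplicity,
      P.card_eq_multiplicity]
  have e1 := hfull m hm
  rw [Subgroup.map_map] at hm'
  have e2 := hfull (m' * g) (le_of_eq_of_le (by
    congr 1; ext y; simp [mul_assoc]) hm')
  have hk : m' * g * m⁻¹ ∈ M := by
    refine Thompson.normalizer_le p _ (mem_normalizer_iff.mpr fun y => ?_)
    constructor
    · intro hy
      rw [← e1] at hy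
      obtain ⟨t, ht, rfl⟩ := hy
      rw [← e2]
      exact ⟨t, ht, by simp [mul_assoc]⟩
    · intro hy
      rw [← e2] at hy
      obtain ⟨t, ht, hty⟩ := hy
      rw [← e1]
      refine ⟨t, ht, ?_⟩
      have hy' : m' * g * m⁻¹ * y * (m' * g * m⁻¹)⁻¹ = m' * g * t * (m' * g)⁻¹ := hty.symm
      show m * t * m⁻¹ = y
      calc m * t * m⁻¹ = (m' * g * m⁻¹)⁻¹ * (m' * g * t * (m' * g)⁻¹) * (m' * g * m⁻¹) := by group
        _ = _ := by rw [← hy']; group
  have hg' : g = m'⁻¹ * (m' * g * m⁻¹) * m := by group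
  rw [hg']
  exact M.mul_mem (M.mul_mem (M.inv_mem hm'M) hk) hmM

include hCN hodd hsolv in
/-- The Sylow subgroups are TI. -/
theorem sylow_ti (hperf : commutator G = ⊤) (P : Sylow p G) :
    ∀ x ∈ P, x ≠ 1 → ∀ g : G, g * x * g⁻¹ ∈ P → g ∈ normalizer ((P : Subgroup G) : Set G) := by
  rcases eq_or_ne (P : Subgroup G) ⊥ with hP | hP
  · intro x hx hx1
    exact absurd (mem_bot.mp (hP ▸ hx)) hx1
  set M := normalizer (Cfsg.thompsonSubgroupOf p (P : Subgroup G) : Set G) with hM
  have hPM : (P : Subgroup G) ≤ M := le_normalizer.trans (Thompson.normalizer_le p _)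
  have hJ : Cfsg.thompsonSubgroupOf p (P : Subgroup G) ≠ ⊥ := by
    refine Thompson.thompsonSubgroupOf_ne_bot ?_
    obtain ⟨k, hk⟩ := P.2.exists_card_eq
    rw [hk]
    exact dvd_pow_self p fun h0 => hP (card_eq_one.mp (by rw [hk, h0, pow_zero]))
  have hJp := P.2.to_le (Thompson.thompsonSubgroupOf_le p (P : Subgroup G))
  have hMN : M ≤ normalizer ((P : Subgroup G) : Set G) := by
    rcases normalizer_dichotomy hCN hodd hJp hJ (hsolv _ hJp hJ) (S := (P : Subgroup G))
      ⟨hPM, P.2, fun T _ hT hPT => P.3 hT hPT⟩ with h | ⟨h, -⟩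
    · exact h
    · exfalso
      refine h ?_
      have := Transfer.commutator_inf_eq_of_control P hPM fun x hx g hg => ?_
      · rw [hperf, top_inf_eq] at this
        exact inf_eq_right.mp this.symm
      · rcases eq_or_ne x 1 with rfl | hx1
        · exact ⟨1, one_mem _, by simp⟩
        · exact ⟨g, mem_normalizer_thompson_of_conj_mem hCN hodd hsolv P hx hx1 (hPM hg), rfl⟩
  intro x hx hx1 g hg
  exact hMN (mem_normalizer_thompson_of_conj_mem hCN hodd hsolv P hx hx1 (hPM hg))

end Cfsg.Agent.Lib.CNTheorem
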