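import Cfsg.Agent.Lib.CNTheorem.Local
import Cfsg.Agent.Lib.CNTheorem.Count

/-!
The CN-theorem for groups of odd order: they are solvable.
-/

set_option autoImplicit false
set_option linter.style.haveILetI false

namespace Cfsg.Agent.Lib.CNTheorem

open Subgroup
open Cfsg.Agent.Lib
open scoped commutatorElement

universe u

theorem isSolvable_of_odd_cn_aux (n : ℕ) : ∀ (G : Type u) [Group G] [Finite G],
    Nat.card G = n → Odd (Nat.card G) → Cfsg.IsCNGroup G → Group.IsSolvable G := by
  induction n using Nat.strong_induction_on with
  | _ n ih =>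
    intro G _ _ hn hodd hCN
    have hsub : ∀ H : Subgroup G, H ≠ ⊤ → Group.IsSolvable H := by
      intro H hH
      refine ih (Nat.card H) ?_ H rfl (hodd.of_dvd_nat (card_subgroup_dvd_card H))
        (isCN_subgroup hCN H)
      rw [← hn]
      exact lt_of_le_of_ne (card_le_card_group H) fun e => hH (eq_top_of_card_eq H e)
    by_cases hnor : ∃ N : Subgroup G, N.Normal ∧ N ≠ ⊥ ∧ N ≠ ⊤
    · obtain ⟨N, hN, hN1, hN2⟩ := hnor
      haveI := hsub N hN2
      haveI : Nontrivial N := (N.nontrivial_iff_ne_bot).mpr hN1
      obtain ⟨p, hp, P, hPn, hPp, hP1⟩ := SZ.exists_normal_pSubgroup N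
      haveI := Fact.mk hp
      haveI : (Cfsg.pCore p N).Characteristic := PSolvable.pCore_characteristic
      set R := (Cfsg.pCore p N).map N.subtype with hR
      haveI : R.Normal := ConjAct.normal_of_characteristic_of_normal
      have hRp : IsPGroup p R := PSolvable.pCore_isPGroup.map _
      have hR1 : R ≠ ⊥ := fun e => hP1 (eq_bot_iff.mpr ((PSolvable.le_pCore hPp).trans
        ((map_eq_bot_iff_of_injective _ N.subtype_injective).mp e).le))
      have hq : Group.IsSolvable (G ⧸ R) := by
        refine ih (Nat.card (G ⧸ R)) ?_ (G ⧸ R) rfl (hodd.of_dvd_nat (card_quotient_dvd_card R))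
          (isCN_quotient hCN R hRp)
        rw [← hn, card_eq_card_quotient_mul_card_subgroup R]
        exact lt_mul_of_one_lt_right Nat.card_pos (R.one_lt_card_iff_ne_bot.mpr hR1)
      haveI : Group.IsNilpotent R := hRp.isNilpotent
      exact Group.isSolvable_of_ker_le_range R.subtype (QuotientGroup.mk' R)
        (by rw [QuotientGroup.ker_mk', range_subtype])
    · push Not at hnor
      by_cases hcomm : commutator G = ⊥
      · refine Group.isSolvable_of_comm fun a b => ?_
        have h1 : ⁅a, b⁆ ∈ commutator G := commutator_mem_commutator (mem_top a) (mem_top b)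
        rw [hcomm, mem_bot] at h1
        exact commutatorElement_eq_one_iff_mul_comm.mp h1
      · exfalso
        have hperf : commutator G = ⊤ := hnor _ inferInstance hcomm
        haveI : Nontrivial G := by
          by_contra h
          rw [not_nontrivial_iff_subsingleton] at h
          exact hcomm (Subsingleton.elim _ _)
        have hTI : ∀ p : ℕ, p.Prime → ∀ P : Sylow p G, ∀ x ∈ P, x ≠ 1 → ∀ g : G,
            g * x * g⁻¹ ∈ P → g ∈ normalizer ((P : Subgroup G) : Set G) := by
          intro p hp P
          haveI := Fact.mk hp
          refine sylow_ti hCN hodd (fun Q hQ hQ1 => ?_) hperf P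
          by_cases htop : normalizer (Q : Set G) = ⊤
          · have hQn : Q.Normal := normalizer_eq_top_iff.mp htop
            have hQtop : Q = ⊤ := hnor Q hQn hQ1
            haveI : Group.IsNilpotent Q := hQ.isNilpotent
            haveI : Group.IsNilpotent G := isNilpotent_of_eq_top hQtop inferInstance
            infer_instance
          · exact hsub _ htop
        obtain ⟨m, H, hm, hB, hcover, hsep, hcop, hlt⟩ := exists_block_family hCN hTI hperf
        haveI : Nonempty (Fin m) := ⟨⟨0, hm⟩⟩
        haveI := Fintype.ofFinite G
        exact false_of_family H hodd hB hcover hsep hcop hlt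

/-- **The CN-theorem for odd order**: a finite CN-group of odd order is solvable. -/
theorem isSolvable_of_odd_cn {G : Type u} [Group G] [Finite G] (hodd : Odd (Nat.card G))
    (hCN : Cfsg.IsCNGroup G) : Group.IsSolvable G :=
  isSolvable_of_odd_cn_aux _ G rfl hodd hCN

end Cfsg.Agent.Lib.CNTheorem
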